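import Groth.Agent.CohOps.PnSmooth
import Mathlib.AlgebraicGeometry.Morphisms.Smooth
import Mathlib.RingTheory.RingHom.StandardSmooth

/-!
# Projective space is smooth of relative dimension `n` (light imports; the proof of DualAbs.PnTop)
-/

set_option autoImplicit false
set_option linter.style.haveILetI false
set_option maxHeartbeats 800000

universe u

open CategoryTheory CategoryTheory.Limits AlgebraicGeometry MvPolynomial

noncomputable section

namespace Groth.Agent.CurvLoci.P1Smooth

open Groth.Agent.CohOps.PnSmooth

section Smooth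

variable (n : ℕ) (A : Type u) [CommRing A]

theorem isStandardSmooth_mvPolynomial :
    Algebra.IsStandardSmoothOfRelativeDimension n A (MvPolynomial (Fin n) A) := by
  let v : Fin 0 → MvPolynomial (Fin n) A := Fin.elim0
  let P₀ : Algebra.PreSubmersivePresentation A (MvPolynomial (Fin n) A ⧸ Ideal.span (Set.range v)) (Fin n) (Fin 0) :=
    Algebra.PreSubmersivePresentation.naive Fin.elim0 (fun i => i.elim0)
  have hj : IsUnit P₀.jacobian := by
    classical
    rw [Algebra.PreSubmersivePresentation.jacobian_eq_jacobiMatrix_det, Matrix.det_fin_zero, map_one]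
    exact isUnit_one
  let P : Algebra.SubmersivePresentation A (MvPolynomial (Fin n) A ⧸ Ideal.span (Set.range v)) (Fin n) (Fin 0) :=
    ⟨P₀, hj⟩
  haveI : Algebra.IsStandardSmoothOfRelativeDimension n A (MvPolynomial (Fin n) A ⧸ Ideal.span (Set.range v)) :=
    ⟨⟨_, _, _, inferInstance, P, by simp [Algebra.Presentation.dimension]⟩⟩
  have hbot : Ideal.span (Set.range v) = ⊥ := by simp [Set.range_eq_empty]
  exact .of_algEquiv n ((Ideal.quotientEquivAlgOfEq A hbot).trans (AlgEquiv.quotientBot A _))

theorem smoothRel_scal (i : Fin (n + 1)) :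
    RingHom.Locally (RingHom.IsStandardSmoothOfRelativeDimension n)
      ((HomogeneousLocalization.fromZeroRingHom (CohB1.polyGrading n A)
        (Submonoid.powers (X i : MvPolynomial (Fin (n + 1)) A))).comp (algebraMap A (CohB1.polyGrading n A 0))) := by
  have e : (HomogeneousLocalization.fromZeroRingHom (CohB1.polyGrading n A)
      (Submonoid.powers (X i : MvPolynomial (Fin (n + 1)) A))).comp (algebraMap A (CohB1.polyGrading n A 0)) =
      (RingEquiv.ofBijective (toAway n A i) (toAway_bijective n A i)).toRingHom.comp C := by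
    ext r
    simp [← dh_C]
  rw [e]
  refine RingHom.locally_of RingHom.isStandardSmoothOfRelativeDimension_respectsIso _ ?_
  refine RingHom.isStandardSmoothOfRelativeDimension_respectsIso.1 _ _ ?_
  have h := (RingHom.isStandardSmoothOfRelativeDimension_algebraMap (R := A) (S := MvPolynomial (Fin n) A) n).mpr
    (isStandardSmooth_mvPolynomial n A)
  exact h

set_option backward.isDefEq.respectTransparency.types false in
theorem smoothOfRelativeDimension_toSpec :
    SmoothOfRelativeDimension n (CohB1.ProjSpace.toSpec n A) := by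
  change SmoothOfRelativeDimension n (Proj.toSpecZero (CohB1.polyGrading n A) ≫
    Spec.map (CommRingCat.ofHom (algebraMap A (CohB1.polyGrading n A 0))))
  have hcov : ⨆ i : Fin (n + 1), Proj.basicOpen (CohB1.polyGrading n A) (X i) = ⊤ := by
    refine Proj.iSup_basicOpen_eq_top' _ _ (fun i => ⟨1, X_mem n A i⟩) ?_
    refine top_le_iff.mp fun p _ => ?_
    induction p using MvPolynomial.induction_on with
    | C a =>
      exact Subalgebra.algebraMap_mem _ (⟨MvPolynomial.C a, MvPolynomial.isHomogeneous_C _ _⟩ : CohB1.polyGrading n A 0)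
    | add p q hp hq => exact add_mem (hp trivial) (hq trivial)
    | mul_X p i hp => exact mul_mem (hp trivial) (Algebra.subset_adjoin ⟨i, rfl⟩)
  rw [IsZariskiLocalAtSource.iff_of_iSup_eq_top (P := @SmoothOfRelativeDimension.{u} n) _ hcov]
  intro i
  rw [← MorphismProperty.cancel_left_of_respectsIso (C := Scheme.{u}) (@SmoothOfRelativeDimension.{u} n)
    (Proj.basicOpenIsoSpec (CohB1.polyGrading n A) (X i) (X_mem n A i) one_pos).inv,
    Proj.basicOpenIsoSpec_inv_ι_assoc, Proj.awayι_toSpecZero_assoc, ← Spec.map_comp,
    HasRingHomProperty.Spec_iff (P := @SmoothOfRelativeDimension.{u} n)]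
  exact smoothRel_scal n A i

end Smooth

end Groth.Agent.CurvLoci.P1Smooth
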