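import Groth.Agent.CurvLoci.Engine
import Groth.Agent.AlgSpReg.BlowUpSp
import Groth.Agent.AlgSpCov.LocPBasic
import Groth.Agent.AlgSpCov.Instances
import Groth.Agent.AlgSpEN.FibreDim
import Mathlib.Topology.KrullDimension

/-!
# Objects of substacks of the stack of curves over a field point
-/

set_option autoImplicit false
set_option backward.isDefEq.respectTransparency false
set_option backward.isDefEq.respectTransparency.types false
set_option linter.style.haveILetI false

universe u

open CategoryTheory CategoryTheory.Limits AlgebraicGeometry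

namespace Groth.Agent.CurvLoci

open Groth.Agent

variable {S : Scheme.{u}} {Ω : Type u} [Field Ω] (t : Spec (CommRingCat.of Ω) ⟶ S)
  {X : Scheme.{u}} (p : X ⟶ Spec (CommRingCat.of Ω))

/-- The family of a scheme over a field point. -/
noncomputable abbrev fieldFam : CurvSt.SpFamObj S 0 where
  base := Over.mk t
  X := (AlgSp.yon S).obj (Over.mk (p ≫ t))
  f := (AlgSp.yon S).map (Over.homMk p rfl : Over.mk (p ≫ t) ⟶ Over.mk t)
  sect := Fin.elim0
  sect_f i := i.elim0

/-- A proper scheme of local dimension at most one over a field gives a family of curves. -/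
theorem isCurveFam_fieldFam [IsProper p] [Flat p] [LocallyOfFinitePresentation p]
    (hd : ∀ x : X, FlatMor.localDim X x ≤ ((1 : ℕ) : WithBot ℕ∞)) : CurvSt.IsCurveFam (fieldFam t p) := by
  let g : Over.mk (p ≫ t) ⟶ Over.mk t := Over.homMk p rfl
  have hfl : Flat g.left := ‹Flat p›
  have hfp : LocallyOfFinitePresentation g.left := ‹LocallyOfFinitePresentation p›
  have hp : IsProper g.left := ‹IsProper p›
  refine ⟨AlgSp.IsAlgSpace.yon_obj _,
    AlgSpCov.locP_of_repWith AlgSpCov.etaleLocal_flat ((AlgSp.repWith_yon_map_iff _ g).2 hfl),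
    AlgSpReg.BlowUpSp.isProperMor_yon_map g hp,
    ⟨AlgSpCov.locP_of_repWith AlgSpCov.etaleLocal_locallyOfFinitePresentation
        ((AlgSp.repWith_yon_map_iff _ g).2 hfp),
      AlgSp.isQuasiCompactMor_of_repWith (AlgSp.IsAlgSpace.yon_obj _)
        ((AlgSp.repWith_yon_map_iff _ g).2 inferInstance),
      (AlgSp.isQuasiSeparatedMor_yon_map_iff g).2 inferInstance⟩, fun x => ?_⟩
  refine ⟨Over.mk (p ≫ t), Over.mk t, 𝟙 _, 𝟙 _, g, AlgSp.Points.toScheme _ x, AlgSp.repWith_id _ _,
    AlgSp.repWith_id _ _, by simp [fieldFam, g], AlgSp.Points.ofScheme_toScheme _ x, ?_⟩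
  exact (AlgSpEN.fibreDimAt_field (K := Ω) p _).trans_le (hd _)

/-- A family over a field point satisfying the condition gives an object of the substack. -/
theorem nonempty_fiber [IsProper p] [Flat p] [LocallyOfFinitePresentation p]
    (hd : ∀ x : X, FlatMor.localDim X x ≤ ((1 : ℕ) : WithBot ℕ∞))
    (P : (CurvSt.Curves S 0).obj → Prop) (hP : P ⟨fieldFam t p, isCurveFam_fieldFam t p hd⟩) :
    Nonempty ((AlgSt.fullSub (CurvSt.Curves S 0) P).p.Fiber (Over.mk t)) :=
  ⟨⟨⟨⟨fieldFam t p, isCurveFam_fieldFam t p hd⟩, hP⟩, rfl⟩⟩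

/-- A good condition on a family over a field is tested on the scheme. -/
theorem locP_pw_fieldFam_iff {Q : ∀ (U V : Scheme.{u}), (U ⟶ V) → ↥U → Prop} (hQ : Good Q) [Flat p]
    [LocallyOfFinitePresentation p] :
    AlgSp.LocP (pw Q) (fieldFam t p).f ↔ ∀ x, Q X (Spec (CommRingCat.of Ω)) p x := by
  let g : Over.mk (p ≫ t) ⟶ Over.mk t := Over.homMk p rfl
  have hfl : Flat g.left := ‹Flat p›
  have hfp : LocallyOfFinitePresentation g.left := ‹LocallyOfFinitePresentation p›
  have hid : AlgSp.RepWith @Surjective (𝟙 ((AlgSp.yon S).obj (Over.mk (p ≫ t)))) := AlgSp.repWith_id _ _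
  exact locP_pw_iff hQ (T := Over.mk t) (U := Over.mk (p ≫ t)) ((AlgSp.yon S).map g)
    (AlgSpCov.locP_of_repWith AlgSpCov.etaleLocal_flat ((AlgSp.repWith_yon_map_iff _ g).2 hfl))
    (AlgSpCov.locP_of_repWith AlgSpCov.etaleLocal_locallyOfFinitePresentation
      ((AlgSp.repWith_yon_map_iff _ g).2 hfp))
    (AlgSp.repWith_id _ _) hid (h := g) (Category.id_comp _)

/-- The spectrum of a field has local dimension at most one. -/
theorem localDim_spec_le (x : Spec (CommRingCat.of Ω)) :
    FlatMor.localDim (Spec (CommRingCat.of Ω)) x ≤ ((1 : ℕ) : WithBot ℕ∞) := by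
  haveI : Subsingleton ↥(Spec (CommRingCat.of Ω)) := inferInstanceAs (Subsingleton (PrimeSpectrum Ω))
  exact (iInf_le _ (⟨⊤, trivial⟩ : {U : TopologicalSpace.Opens _ // x ∈ U})).trans
    ((topologicalKrullDim_zero_of_discreteTopology _).trans (by exact_mod_cast Nat.zero_le 1))

end Groth.Agent.CurvLoci
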