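import Groth.Agent.CurvLoci.CMGor
import Groth.Agent.CurvLoci.Point
import Groth.Agent.CurveDVR.Stalk
import Groth.Agent.FlatOpen.CMLocusScheme
import Groth.Agent.AlgSpD.FibreDimBC
import Groth.Agent.AlgSpD.HasAt
import Groth.Agent.S0341
import Groth.Agent.S0342
import Groth.Agent.S2768
import Groth.Agent.CurvLoci.P1Smooth
import Groth.Agent.ProjProper.Basic

/-!
# Relative dimension exactly one, and the projective line as a test object
-/

set_option autoImplicit false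
set_option backward.isDefEq.respectTransparency false
set_option backward.isDefEq.respectTransparency.types false
set_option linter.style.haveILetI false

universe u

open CategoryTheory CategoryTheory.Limits AlgebraicGeometry

namespace Groth.Agent.CurvLoci

open Groth.Agent

variable {U V : Scheme.{u}}

theorem isCMAt_of_isGorensteinAt {h : U ⟶ V} {x : U} (H : Dual3.IsGorensteinAt h x) :
    MoreMor.IsCMAt h x :=
  haveI := H.2
  ⟨H.1, S0341.result _⟩

theorem isGorensteinAt_of_smooth (h : U ⟶ V) [Smooth h] (x : U) : Dual3.IsGorensteinAt h x := by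
  haveI : Smooth (h.fiberToSpecResidueField (h x)) := MorphismProperty.pullback_snd _ _ inferInstance
  haveI := CurveDVR.isRegularLocalRing_stalk (h.fiberToSpecResidueField (h x)) (h.asFiber x)
  exact ⟨Flat.stalkMap h x, S0342.result _⟩

/-- Fibre dimension exactly `d`. -/
abbrev DimEq (d : WithBot ℕ∞) : ∀ (U V : Scheme.{u}), (U ⟶ V) → ↥U → Prop :=
  fun _ _ h u => FlatMor.fibreDimAt h u = d

theorem morEtaleInv_dimEq (d : WithBot ℕ∞) : AlgSpD.MorEtaleInv.{u} (DimEq d) :=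
  fun _ _ _ _ p q h' h _ _ w u => by
    show FlatMor.fibreDimAt h' u = d ↔ FlatMor.fibreDimAt h (p u) = d
    rw [AlgSpD.fibreDimAt_inv p q h' h w u]

/-- A good condition implying Cohen–Macaulay stays good with the fibre dimension prescribed. -/
theorem good_and_dimEq {Q : ∀ (U V : Scheme.{u}), (U ⟶ V) → ↥U → Prop} (hQ : Good Q)
    (hQcm : ∀ ⦃U V : Scheme.{u}⦄ (h : U ⟶ V) [Flat h] [LocallyOfFinitePresentation h] (x : U),
      Q U V h x → MoreMor.IsCMAt h x) (n : ℕ) :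
    Good.{u} (fun U V h x => Q U V h x ∧ DimEq (n : WithBot ℕ∞) U V h x) where
  inv := fun _ _ _ _ p q h' h _ _ _ _ _ _ w u =>
    and_congr (hQ.inv p q h' h w u) (morEtaleInv_dimEq _ p q h' h ‹_› ‹_› w u)
  isOpen := fun U V h _ _ => by
    convert (hQ.isOpen h).inter (FlatOpen.CMLocus.isOpen_isCMAt_fibreDim h n) using 1
    ext x
    exact ⟨fun H => ⟨H.1, hQcm h x H.1, H.2⟩, fun H => ⟨H.1, H.2.2⟩⟩
  bc := fun U V U' V' h k fst h' _ _ sq u' => by
    refine and_congr (hQ.bc h k fst h' sq u') ?_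
    show FlatMor.fibreDimAt h' u' = _ ↔ FlatMor.fibreDimAt h (fst u') = _
    rw [AlgSpD.fibreDimAt_of_isPullback h sq u']

/-- "`Q` on all charts and dimension `d` at some chart through every point" is one condition on all
charts. -/
theorem locP_and_iff {S : Scheme.{u}} {Q : ∀ (U V : Scheme.{u}), (U ⟶ V) → ↥U → Prop} (d : WithBot ℕ∞)
    {A : CurvSt.SpFamObj S 0} (hA : CurvSt.IsCurveFam A) :
    (AlgSp.LocP (pw Q) A.f ∧ ∀ x : AlgSp.Points A.X, AlgSp.HasAtMor (DimEq d) A.f x) ↔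
      AlgSp.LocP (pw fun U V h x => Q U V h x ∧ DimEq d U V h x) A.f := by
  let X : AlgSp.Space S := ⟨A.X, hA.1⟩
  let T : AlgSp.Space S := ⟨(AlgSp.yon S).obj A.base, AlgSp.IsAlgSpace.yon_obj A.base⟩
  let fm : X ⟶ T := ObjectProperty.homMk A.f
  refine ⟨fun H U V a b h ha hb w u => ⟨H.1 a b h ha hb w u, ?_⟩, fun H => ⟨fun U V a b h ha hb w u =>
    (H a b h ha hb w u).1, fun x => ?_⟩⟩
  · exact (AlgSpD.hasAtMor_iff_chart (morEtaleInv_dimEq d) fm ha hb w u).1 (H.2 _)
  · obtain ⟨U, a, u, ha, rfl⟩ := AlgSpD.exists_chart X x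
    obtain ⟨h, hh⟩ := (AlgSp.yon S).map_surjective (a ≫ A.f)
    have w : a ≫ A.f = (AlgSp.yon S).map h ≫ 𝟙 _ := by rw [Category.comp_id, hh]
    exact ⟨U, A.base, a, 𝟙 _, h, u, ha, AlgSp.repWith_id _ _, w, rfl,
      (H a (𝟙 _) h ha (AlgSp.repWith_id _ _) w u).2⟩

/-- The projective line over a field point lies in a substack cut out by a good condition which
holds at smooth morphisms of relative dimension one. -/
theorem nonempty_fiber_p1 {S : Scheme.{u}} {Ω : Type u} [Field Ω] (t : Spec (CommRingCat.of Ω) ⟶ S)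
    {Q : ∀ (U V : Scheme.{u}), (U ⟶ V) → ↥U → Prop} (hQ : Good Q)
    (P : CurvSt.SpFamObj S 0 → Prop) (hP : ∀ A, CurvSt.IsCurveFam A → (P A ↔ AlgSp.LocP (pw Q) A.f))
    (hsm : ∀ ⦃U V : Scheme.{u}⦄ (h : U ⟶ V) [SmoothOfRelativeDimension 1 h] (x : U), Q U V h x) :
    Nonempty ((AlgSt.fullSub (CurvSt.Curves S 0) (fun A => P A.obj)).p.Fiber (Over.mk t)) := by
  haveI : IsProper (CohB1.ProjSpace.toSpec 1 Ω) := ProjProper.Basic.isProper_toSpec 1 Ω
  haveI : Smooth (CohB1.ProjSpace.toSpec 1 Ω) := CohOps.PnSmooth.smooth_toSpec 1 Ω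
  haveI : SmoothOfRelativeDimension 1 (CohB1.ProjSpace.toSpec 1 Ω) :=
    P1Smooth.smoothOfRelativeDimension_toSpec 1 Ω
  have hd : ∀ x, FlatMor.localDim (CohB1.ProjSpace 1 Ω) x ≤ ((1 : ℕ) : WithBot ℕ∞) := fun x => by
    rw [← AlgSpEN.fibreDimAt_field (CohB1.ProjSpace.toSpec 1 Ω) x, S2768.result 1 _ x]
  exact nonempty_fiber t (CohB1.ProjSpace.toSpec 1 Ω) hd _
    ((hP _ (isCurveFam_fieldFam t _ hd)).2 ((locP_pw_fieldFam_iff t _ hQ).2 fun x => hsm _ x))

end Groth.Agent.CurvLoci
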