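import Groth.Agent.CurvLoci.SmoothLocus
import Groth.Agent.CurvLoci.Dim1
import Groth.Agent.Omega.SmoothFibreDim

/-!
# Smooth of relative dimension one as a good condition
-/

set_option autoImplicit false
set_option backward.isDefEq.respectTransparency false
set_option backward.isDefEq.respectTransparency.types false
set_option linter.style.haveILetI false

universe u

open CategoryTheory CategoryTheory.Limits AlgebraicGeometry

namespace Groth.Agent.CurvLoci

open Groth.Agent

/-- A smooth morphism with all fibre dimensions `n` is smooth of relative dimension `n`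
(the proof of TanSmooth.Scheme, with light imports). -/
theorem smoothOfRelativeDimension_of_fibreDim {X Y : Scheme.{u}} (f : X ⟶ Y) [Smooth f] (n : ℕ)
    (h : ∀ x : X, FlatMor.fibreDimAt f x = (n : WithBot ℕ∞)) : SmoothOfRelativeDimension n f := by
  refine ⟨fun x => ?_⟩
  obtain ⟨U, hU, V, hV, hx, e, hf⟩ := Smooth.exists_isStandardSmooth (f := f) x
  refine ⟨U, hU, V, hV, hx, e, ?_⟩
  letI := (f.appLE U V e).hom.toAlgebra
  haveI : Algebra.IsStandardSmooth Γ(Y, U) Γ(X, V) := hf
  obtain ⟨Q, hQ⟩ := Omega.SmoothFibreDim.exists_pt hV hx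
  haveI : Nontrivial Γ(X, V) := Q.nontrivial
  show Algebra.IsStandardSmoothOfRelativeDimension n Γ(Y, U) Γ(X, V)
  rw [Algebra.IsStandardSmoothOfRelativeDimension.iff_of_isStandardSmooth, ← Module.finrank_eq_rank, Nat.cast_inj]
  have h1 := h x
  rw [← hQ, ← Omega.SmoothFibreDim.fibreDimAt_appLE f hU hV e Q] at h1
  have hs : Spec.map (f.appLE U V e) = Spec.map (CommRingCat.ofHom (algebraMap Γ(Y, U) Γ(X, V))) := rfl
  rw [hs, Omega.SmoothFibreDim.fibreDimAt_spec Γ(Y, U) Γ(X, V) Q, Module.rankAtStalk_eq_finrank_of_free] at h1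
  exact_mod_cast h1

theorem isCMAt_of_smAt {U V : Scheme.{u}} (h : U ⟶ V) [LocallyOfFinitePresentation h] (x : U)
    (H : SmAt U V h x) : MoreMor.IsCMAt h x := by
  obtain ⟨O, hx, hs⟩ := H
  exact (isCMAt_precomp O.ι h ⟨x, hx⟩).1 (isCMAt_of_isGorensteinAt (isGorensteinAt_of_smooth (O.ι ≫ h) _))

theorem good_smooth_dimOne :
    Good.{u} (fun U V h x => SmAt U V h x ∧ DimEq ((1 : ℕ) : WithBot ℕ∞) U V h x) :=
  good_and_dimEq good_smooth (fun _ _ h _ _ x H => isCMAt_of_smAt h x H) 1

theorem pw_smAt : pw SmAt.{u} = (@Smooth : MorphismProperty Scheme.{u}) := by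
  ext U V h
  exact smAt_all_iff h

theorem pw_smAt_dimOne : pw (fun U V h x => SmAt.{u} U V h x ∧ DimEq ((1 : ℕ) : WithBot ℕ∞) U V h x) =
    (fun _ _ h => SmoothOfRelativeDimension 1 h : MorphismProperty Scheme.{u}) := by
  ext U V h
  refine ⟨fun H => ?_, fun H x => ?_⟩
  · haveI : Smooth h := (smAt_all_iff h).1 fun x => (H x).1
    exact smoothOfRelativeDimension_of_fibreDim h 1 fun x => (H x).2
  · haveI : SmoothOfRelativeDimension 1 h := H
    haveI : Smooth h := SmoothOfRelativeDimension.smooth (n := 1) h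
    exact ⟨(smAt_all_iff h).2 inferInstance x, S2768.result 1 h x⟩

end Groth.Agent.CurvLoci
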