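import Groth.Agent.CurvLoci.Engine
import Groth.Agent.AlgSp.GorCore
import Groth.Agent.CohOps.GorOpen
import Groth.Agent.Depth.CM
import Groth.Agent.S1341
import Groth.Agent.S1342
import Groth.Agent.S3626
import Groth.Agent.S9766
import Groth.Agent.S9767

/-!
# The Cohen–Macaulay and Gorenstein loci are good
-/

set_option autoImplicit false
set_option backward.isDefEq.respectTransparency false
set_option backward.isDefEq.respectTransparency.types false
set_option linter.style.haveILetI false

universe u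

open CategoryTheory CategoryTheory.Limits AlgebraicGeometry

namespace Groth.Agent.CurvLoci

open Groth.Agent

variable {U V W : Scheme.{u}}

/-- An etale morphism is Cohen–Macaulay at every point. -/
theorem isCMAt_etale (e : U ⟶ V) [Etale e] (x : U) : MoreMor.IsCMAt e x := by
  rw [FlatMor.CMFlat.isCMAt_iff, (Wt.FlatWt.etale_stalk e x).1]
  refine ⟨Flat.stalkMap e x, ?_⟩
  letI := Ideal.Quotient.field (IsLocalRing.maximalIdeal (U.presheaf.stalk x))
  exact Depth.isCohenMacaulayLocalRing_of_isRegularLocalRing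

theorem isCMAt_precomp (e : U ⟶ V) [Etale e] (h : V ⟶ W) [LocallyOfFiniteType h] (x : U) :
    MoreMor.IsCMAt (e ≫ h) x ↔ MoreMor.IsCMAt h (e x) :=
  ⟨fun H => (S9767.result e h x (Wt.CMBase.isLocallyNoetherian_fiber e _)
      (Wt.CMBase.isLocallyNoetherian_fiber h _) H (Flat.stalkMap e x)).2,
    fun H => S9766.result e h x (Wt.CMBase.isLocallyNoetherian_fiber (e ≫ h) _) (isCMAt_etale e x) H⟩

theorem isCMAt_postcomp (h : U ⟶ V) (e : V ⟶ W) [Etale e] [LocallyOfFiniteType h] (x : U) :
    MoreMor.IsCMAt (h ≫ e) x ↔ MoreMor.IsCMAt h x :=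
  ⟨fun H => (S9767.result h e x (Wt.CMBase.isLocallyNoetherian_fiber h _)
      (Wt.CMBase.isLocallyNoetherian_fiber e _) H
        (AlgSp.GorCore.stalkMap_flat_of_comp_etale h e x H.1)).1,
    fun H => S9766.result h e x (Wt.CMBase.isLocallyNoetherian_fiber (h ≫ e) _) H (isCMAt_etale e _)⟩

theorem good_cm : Good.{u} (fun _ _ h x => MoreMor.IsCMAt h x) where
  inv := fun _ _ _ _ p q h' h _ _ _ _ _ _ w u => by
    change MoreMor.IsCMAt h' u ↔ MoreMor.IsCMAt h (p u)
    rw [← isCMAt_postcomp h' q u, ← isCMAt_precomp p h u, w]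
  isOpen := fun _ _ h _ _ => (S1341.result h).1
  bc := fun _ _ _ _ h k fst h' _ _ sq u' => Set.ext_iff.1 (S1342.result h h' fst k sq) u'

theorem good_gor : Good.{u} (fun _ _ h x => Dual3.IsGorensteinAt h x) where
  inv := fun _ _ _ _ p q h' h _ _ _ _ _ _ w u => by
    change Dual3.IsGorensteinAt h' u ↔ Dual3.IsGorensteinAt h (p u)
    rw [← AlgSp.GorCore.isGorensteinAt_postcomp h' q u,
      ← AlgSp.GorCore.isGorensteinAt_precomp p h u (CohOps.GorOpen.noeth_quot h _)
        (CohOps.GorOpen.noeth_quot (p ≫ h) _), w]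
  isOpen := fun _ _ h _ _ => CohOps.GorOpen.isOpen h
  bc := fun _ _ _ _ h k fst h' _ _ sq u' => S3626.result _ _ _ _ h k h' fst sq u'

/-- An etale morphism is Gorenstein at every point. -/
theorem isGorensteinAt_etale (e : U ⟶ V) [Etale e] (x : U) : Dual3.IsGorensteinAt e x := by
  rw [AlgSp.GorCore.isGorensteinAt_iff]
  have h : AlgSp.GorCore.fibIdeal e x = IsLocalRing.maximalIdeal (U.presheaf.stalk x) :=
    (Wt.FlatWt.etale_stalk e x).1
  rw [h]
  refine ⟨Flat.stalkMap e x, AlgSp.GorCore.gorenstein_of_isField ?_⟩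
  exact (Ideal.Quotient.maximal_ideal_iff_isField_quotient _).1 inferInstance

end Groth.Agent.CurvLoci
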