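import Groth.Agent.CurvLoci.FibreScheme
import Groth.Agent.CurvLoci.CMGor
import Groth.Agent.AlgSpB.RedInduced
import Groth.Agent.AlgSpB.OverField
import Groth.Agent.Depth.Local

/-!
# Families of curves with reduced geometric fibres are Cohen–Macaulay
-/

set_option autoImplicit false
set_option backward.isDefEq.respectTransparency false
set_option backward.isDefEq.respectTransparency.types false
set_option linter.style.haveILetI false

universe u

open CategoryTheory CategoryTheory.Limits AlgebraicGeometry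

namespace Groth.Agent.CurvLoci

open Groth.Agent

/-- A reduced Noetherian local ring of dimension at most one is Cohen–Macaulay. -/
theorem isCM_of_reduced_dim_le_one (R : Type u) [CommRing R] [IsLocalRing R] [IsNoetherianRing R]
    [_root_.IsReduced R] (h : ringKrullDim R ≤ 1) : LocCoh.IsCohenMacaulayLocalRing R := by
  refine Depth.isCohenMacaulayLocalRing_iff.mpr (le_antisymm ?_ Depth.depth_le_supportDim)
  rw [Module.supportDim_self_eq_ringKrullDim]
  by_cases hf : IsField R
  · exact le_trans (le_of_eq (ringKrullDim_eq_zero_of_isField hf)) (WithBot.coe_le_coe.mpr zero_le)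
  refine h.trans (WithBot.coe_le_coe.mpr ?_)
  rw [Depth.depth_eq_idealDepth]
  refine Depth.one_le_idealDepth_iff.mpr fun p hp hle => ?_
  have hp' : p.IsPrime := Depth.isPrime_of_mem_associatedPrimes hp
  obtain rfl : p = IsLocalRing.maximalIdeal R := le_antisymm (IsLocalRing.le_maximalIdeal hp'.ne_top) hle
  obtain ⟨-, f, hfi⟩ := ((isAssociatedPrime_iff_exists_injective_linearMap _ _).mp) hp
  let z : R := f (Submodule.Quotient.mk 1)
  have hz : ∀ b ∈ IsLocalRing.maximalIdeal R, b * z = 0 := fun b hb => by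
    change b • f (Submodule.Quotient.mk 1) = 0
    rw [← map_smul, ← Submodule.Quotient.mk_smul, smul_eq_mul, mul_one,
      (Submodule.Quotient.mk_eq_zero _).mpr hb, map_zero]
  have hz0 : z ≠ 0 := fun h0 => (IsLocalRing.maximalIdeal.isMaximal R).ne_top ((Ideal.eq_top_iff_one _).mpr
    ((Submodule.Quotient.mk_eq_zero _).mp (hfi (h0.trans (map_zero f).symm))))
  by_cases hzm : z ∈ IsLocalRing.maximalIdeal R
  · exact hz0 ((show IsNilpotent z from ⟨2, by rw [sq]; exact hz z hzm⟩).eq_zero)
  · refine hf (IsLocalRing.isField_iff_maximalIdeal_eq.2 (le_antisymm (fun b hb => ?_) bot_le))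
    have hu : IsUnit z := by simpa [IsLocalRing.mem_maximalIdeal] using hzm
    exact (Submodule.mem_bot R).2 ((IsUnit.mul_left_eq_zero hu).1 (hz b hb))

/-- A reduced scheme of dimension at most one over a field is Cohen–Macaulay over it. -/
theorem isCMAt_of_reduced {Ω : Type u} [Field Ω] {W : Scheme.{u}} (q : W ⟶ Spec (CommRingCat.of Ω))
    [LocallyOfFiniteType q] [IsReduced W] (hd : ∀ w : W, ringKrullDim (W.presheaf.stalk w) ≤ 1) (w : W) :
    MoreMor.IsCMAt q w := by
  haveI : Flat q := AlgSpB.flat_to_field q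
  refine ⟨Flat.stalkMap q w, ?_⟩
  have : IsIso ((Spec (CommRingCat.of Ω)).fromSpecResidueField (q w)) := by
    have : Subsingleton ↥(Spec (CommRingCat.of Ω)) := inferInstanceAs (Subsingleton (PrimeSpectrum Ω))
    have : Surjective ((Spec (CommRingCat.of Ω)).fromSpecResidueField (q w)) :=
      ⟨fun x => ⟨IsLocalRing.closedPoint _, Subsingleton.elim _ _⟩⟩
    have : IsReduced (Spec (CommRingCat.of Ω)) := inferInstance
    have : IsClosedImmersion ((Spec (CommRingCat.of Ω)).fromSpecResidueField (q w)) :=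
      IsClosedImmersion.of_isPreimmersion _ (by rw [Surjective.surj.range_eq]; exact isClosed_univ)
    exact isIso_of_isClosedImmersion_of_surjective _
  have : IsIso (q.fiberι (q w)) := inferInstanceAs (IsIso (pullback.fst _ _))
  haveI : IsLocallyNoetherian W := LocallyOfFiniteType.isLocallyNoetherian q
  haveI : IsLocallyNoetherian (q.fiber (q w)) := LocallyOfFiniteType.isLocallyNoetherian (q.fiberι (q w))
  haveI : IsReduced (q.fiber (q w)) := AlgSpB.isReduced_of_etale (q.fiberι (q w))
  refine isCM_of_reduced_dim_le_one _ ?_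
  rw [← AlgSpD.ringKrullDim_stalk_eq (q.fiberι (q w))]
  exact hd _

variable {S : Scheme.{u}}

/-- Reduced geometric fibres make a family of curves Cohen–Macaulay. -/
theorem locP_cm_of_geomRed (A : CurvSt.SpFamObj S 0) (hA : CurvSt.IsCurveFam A)
    (H : CurvSt.GeomFib (fun _ _ _ X' _ _ => IsReduced X') A) :
    AlgSp.LocP (pw fun _ _ g x => MoreMor.IsCMAt g x) A.f := by
  have hA₀ := hA
  obtain ⟨hX, hflat, -, hfp, hdim⟩ := hA
  obtain ⟨U₀, p, hp, hs⟩ := hX.atlas
  obtain ⟨h, hh⟩ := (AlgSp.yon S).map_surjective (p ≫ A.f)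
  have hid : AlgSp.RepWith @Etale (𝟙 ((AlgSp.yon S).obj A.base)) := AlgSp.repWith_id _ _
  have w0 : p ≫ A.f = (AlgSp.yon S).map h ≫ 𝟙 _ := by rw [Category.comp_id]; exact hh.symm
  haveI : Flat h.left := hflat p (𝟙 _) h hp hid w0
  haveI : LocallyOfFinitePresentation h.left := hfp.1 p (𝟙 _) h hp hid w0
  refine (locP_pw_iff good_cm A.f hflat hfp.1 hp hs hh.symm).2 fun x => ?_
  let Ω : Type u := AlgebraicClosure (A.base.left.residueField (h.left x))
  let t : Spec (CommRingCat.of Ω) ⟶ A.base.left :=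
    Spec.map (CommRingCat.ofHom (algebraMap (A.base.left.residueField (h.left x)) Ω)) ≫
      A.base.left.fromSpecResidueField (h.left x)
  obtain ⟨X', q, i, hP⟩ := exists_scheme_fibre A hA₀ Ω t
  haveI : IsReduced X' := H Ω t X' q i hP
  haveI : IsReduced (A.ptOver (q ≫ t)).left := ‹IsReduced X'›
  have hW := IsPullback.of_hasPullback h (A.ptHom t)
  have hW' := hW.map (AlgSp.yon S)
  have hWl : IsPullback (pullback.fst h (A.ptHom t)).left (pullback.snd h (A.ptHom t)).left h.left t :=
    hW.map (Over.forget S)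
  let d : (AlgSp.yon S).obj (pullback h (A.ptHom t)) ⟶ (AlgSp.yon S).obj (A.ptOver (q ≫ t)) :=
    hP.lift ((AlgSp.yon S).map (pullback.fst h _) ≫ p) ((AlgSp.yon S).map (pullback.snd h _)) (by
      rw [Category.assoc, ← hh]; exact hW'.w)
  have sqd : IsPullback ((AlgSp.yon S).map (pullback.fst h (A.ptHom t))) d p i :=
    IsPullback.of_bot (by rw [IsPullback.lift_snd, ← hh]; exact hW') (IsPullback.lift_fst _ _ _ _).symm hP
  have hde : AlgSp.RepWith @Etale d := AlgSpCov.repWith_bc sqd hp
  obtain ⟨r, hr⟩ := (AlgSp.yon S).map_surjective d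
  haveI : Etale r.left := (AlgSp.repWith_yon_map_iff _ r).1 (hr ▸ hde)
  haveI : IsReduced (pullback h (A.ptHom t)).left := AlgSpB.isReduced_of_etale r.left
  obtain ⟨w, hw, -⟩ := Scheme.exists_preimage_of_isPullback hWl x (IsLocalRing.closedPoint Ω)
    (Scheme.fromSpecResidueField_apply _ _).symm
  rw [← hw]
  refine (good_cm.bc h.left t _ _ hWl w).1 ?_
  haveI : LocallyOfFinitePresentation (pullback.snd h (A.ptHom t)).left :=
    MorphismProperty.of_isPullback hWl inferInstance
  refine isCMAt_of_reduced (Ω := Ω) (pullback.snd h (A.ptHom t)).left (fun v => ?_) w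
  refine (stalkDim_le_localDim _ _).trans ?_
  rw [← AlgSpEN.fibreDimAt_field (K := Ω) (pullback.snd h (A.ptHom t)).left,
    AlgSpD.fibreDimAt_of_isPullback h.left hWl]
  refine ((AlgSpD.hasAtMor_iff_chart (Q := fun _ _ h u => FlatMor.fibreDimAt h u ≤ ((1 : ℕ) : WithBot ℕ∞))
      (fun _ _ _ _ p q h' h _ _ w u => by
        show FlatMor.fibreDimAt h' u ≤ _ ↔ FlatMor.fibreDimAt h (p u) ≤ _
        rw [AlgSpD.fibreDimAt_inv p q h' h w u])
      (X := ⟨A.X, hX⟩) (Y := ⟨(AlgSp.yon S).obj A.base, AlgSp.IsAlgSpace.yon_obj _⟩)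
      (ObjectProperty.homMk A.f) hp hid w0 _).1 (hdim _)).trans_eq Nat.cast_one

end Groth.Agent.CurvLoci
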