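import Groth.Agent.CurvLoci.GeomReduced
import Groth.Agent.CurvLoci.ReducedCM
import Groth.Agent.CurvLoci.Dim1
import Groth.Agent.CurveDVR.Stalk
import Groth.Agent.StFieldLib.Basic
import Groth.Agent.ProperFin.PnBase
import Groth.Agent.RegLoc.Basic
import Groth.Agent.AlgSp.NormQf
import Groth.Agent.S10685
import Groth.Agent.S18573

/-!
# Reduced connected geometric fibres of dimension one form an open locus
-/

set_option autoImplicit false
set_option backward.isDefEq.respectTransparency false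
set_option backward.isDefEq.respectTransparency.types false
set_option linter.style.haveILetI false

universe u

open CategoryTheory CategoryTheory.Limits AlgebraicGeometry

namespace Groth.Agent.CurvLoci

open Groth.Agent

variable {S : Scheme.{u}}

/-- The chart of a geometric fibre cut out by a chart of the family. -/
theorem fibre_chart (A : CurvSt.SpFamObj S 0) {U₀ : Over S} {p : (AlgSp.yon S).obj U₀ ⟶ A.X}
    (hp : AlgSp.RepWith @Etale p) (hs : AlgSp.RepWith @Surjective p) {h : U₀ ⟶ A.base}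
    (hh : (AlgSp.yon S).map h = p ≫ A.f) [LocallyOfFiniteType h.left] {Ω : Type u} [Field Ω]
    {t : Spec (CommRingCat.of Ω) ⟶ A.base.left} {X' : Scheme.{u}} {q : X' ⟶ Spec (CommRingCat.of Ω)}
    {i : (AlgSp.yon S).obj (A.ptOver (q ≫ t)) ⟶ A.X}
    (hP : IsPullback i ((AlgSp.yon S).map (A.fibHom t q)) A.f ((AlgSp.yon S).map (A.ptHom t))) :
    (∀ x' : X', ∃ u : ↥U₀.left, FlatMor.localDim X' x' = FlatMor.fibreDimAt h.left u) ∧
      ∀ u : ↥U₀.left, h.left u = t (IsLocalRing.closedPoint Ω) →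
        ∃ x' : X', FlatMor.localDim X' x' = FlatMor.fibreDimAt h.left u := by
  have hW := IsPullback.of_hasPullback h (A.ptHom t)
  have hW' := hW.map (AlgSp.yon S)
  have hWl : IsPullback (pullback.fst h (A.ptHom t)).left (pullback.snd h (A.ptHom t)).left h.left t :=
    hW.map (Over.forget S)
  let d : (AlgSp.yon S).obj (pullback h (A.ptHom t)) ⟶ (AlgSp.yon S).obj (A.ptOver (q ≫ t)) :=
    hP.lift ((AlgSp.yon S).map (pullback.fst h _) ≫ p) ((AlgSp.yon S).map (pullback.snd h _)) (by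
      rw [Category.assoc, ← hh]; exact hW'.w)
  have sqd : IsPullback ((AlgSp.yon S).map (pullback.fst h (A.ptHom t))) d p i :=
    IsPullback.of_bot (by rw [IsPullback.lift_snd, ← hh]; exact hW') (IsPullback.lift_fst _ _ _ _).symm hP
  have hde : AlgSp.RepWith @Etale d := AlgSpCov.repWith_bc sqd hp
  have hds : AlgSp.RepWith @Surjective d := AlgSpCov.repWith_bc sqd hs
  obtain ⟨r, hr⟩ := (AlgSp.yon S).map_surjective d
  haveI : Etale r.left := (AlgSp.repWith_yon_map_iff _ r).1 (hr ▸ hde)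
  haveI : Surjective r.left := (AlgSp.repWith_yon_map_iff _ r).1 (hr ▸ hds)
  have key : ∀ w, FlatMor.localDim X' (r.left w) =
      FlatMor.fibreDimAt h.left ((pullback.fst h (A.ptHom t)).left w) := fun w => by
    rw [← AlgSpD.fibreDimAt_of_isPullback h.left hWl w,
      AlgSpEN.fibreDimAt_field (K := Ω) (pullback.snd h (A.ptHom t)).left]
    exact AlgSpD.localDim_apply_eq r.left w
  refine ⟨fun x' => ?_, fun u hu => ?_⟩
  · obtain ⟨w, hw⟩ := r.left.surjective x'
    exact ⟨_, hw ▸ key w⟩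
  · obtain ⟨w, hw, -⟩ := Scheme.exists_preimage_of_isPullback hWl u (IsLocalRing.closedPoint Ω) hu
    exact ⟨r.left w, hw ▸ key w⟩

/-- A connected reduced scheme of finite type over a field, of local dimensions at most one and of
dimension one, has local dimension one everywhere. -/
theorem localDim_eq_one {Ω : Type u} [Field Ω] {X' : Scheme.{u}} (q : X' ⟶ Spec (CommRingCat.of Ω))
    [LocallyOfFinitePresentation q] [IsReduced X'] [ConnectedSpace ↥X']
    (hle : ∀ x : X', FlatMor.localDim X' x ≤ ((1 : ℕ) : WithBot ℕ∞))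
    (hdim : topologicalKrullDim ↥X' = 1) (x : X') : FlatMor.localDim X' x = ((1 : ℕ) : WithBot ℕ∞) := by
  have hst : ∀ y : X', ringKrullDim (X'.presheaf.stalk y) ≤ 1 := fun y =>
    (stalkDim_le_localDim _ _).trans ((hle y).trans_eq Nat.cast_one)
  have hO : ∀ n : ℕ, IsOpen {y : X' | FlatMor.localDim X' y = (n : WithBot ℕ∞)} := fun n => by
    convert FlatOpen.CMLocus.isOpen_isCMAt_fibreDim q n using 1
    ext y
    simp only [Set.mem_setOf_eq]
    rw [AlgSpEN.fibreDimAt_field (K := Ω) q]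
    exact ⟨fun h => ⟨isCMAt_of_reduced q hst y, h⟩, fun h => h.2⟩
  have h01 : ∀ y : X', FlatMor.localDim X' y = ((0 : ℕ) : WithBot ℕ∞) ∨
      FlatMor.localDim X' y = ((1 : ℕ) : WithBot ℕ∞) := fun y => by
    rcases eq_or_lt_of_le (hle y) with h | h
    · exact Or.inr h
    refine Or.inl (le_antisymm ?_ ?_)
    · revert h
      generalize FlatMor.localDim X' y = d
      intro h
      induction d with
      | bot => exact bot_le
      | coe n =>
        have h' : n < 1 := by exact_mod_cast h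
        rw [ENat.lt_one_iff_eq_zero] at h'
        rw [h', Nat.cast_zero]
        exact le_rfl
    · rw [Nat.cast_zero]
      exact ringKrullDim_nonneg_of_nontrivial.trans (stalkDim_le_localDim X' y)
  have hcl : IsClopen {y : X' | FlatMor.localDim X' y = ((1 : ℕ) : WithBot ℕ∞)} := by
    refine ⟨⟨?_⟩, hO 1⟩
    convert hO 0 using 1
    ext y
    simp only [Set.mem_compl_iff, Set.mem_setOf_eq]
    refine ⟨fun h => (h01 y).resolve_right h, fun h h' => ?_⟩
    exact absurd (h.symm.trans h') (by exact_mod_cast (by decide : (0 : ℕ) ≠ 1))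
  rcases isClopen_iff.1 hcl with h | h
  · exfalso
    have h0 : topologicalKrullDim ↥X' ≤ 0 := by
      rw [AlgSpD.topologicalKrullDim_eq_iSup]
      refine iSup_le fun y => ?_
      rw [← ringKrullDim_stalk_eq_coheight]
      refine (stalkDim_le_localDim _ _).trans ?_
      rcases h01 y with h' | h'
      · exact h'.le
      · exact absurd h' (Set.eq_empty_iff_forall_notMem.1 h y)
    rw [hdim] at h0
    exact not_lt_of_ge h0 zero_lt_one
  · exact Set.eq_univ_iff_forall.1 h x

/-- A nonempty scheme with all local dimensions one has dimension one. -/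
theorem topologicalKrullDim_eq_one {X' : Scheme.{u}} [Nonempty ↥X']
    (h : ∀ x : X', FlatMor.localDim X' x = ((1 : ℕ) : WithBot ℕ∞)) : topologicalKrullDim ↥X' = 1 := by
  refine le_antisymm ?_ ?_
  · rw [AlgSpD.topologicalKrullDim_eq_iSup]
    refine iSup_le fun y => ?_
    rw [← ringKrullDim_stalk_eq_coheight]
    exact (stalkDim_le_localDim _ _).trans ((h y).trans Nat.cast_one).le
  · obtain ⟨x⟩ := ‹Nonempty ↥X'›
    rw [← Nat.cast_one (R := WithBot ℕ∞), ← h x]
    exact (iInf_le _ (⟨⊤, trivial⟩ : {U : TopologicalSpace.Opens ↥X' // x ∈ U})).trans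
      (topologicalKrullDim_subspace_le _ _)

theorem connectedSpace_of_card_eq_one {α : Type*} [TopologicalSpace α]
    (h : ENat.card (ConnectedComponents α) = 1) : ConnectedSpace α := by
  obtain ⟨⟨⟨c⟩, huniq⟩⟩ := ENat.card_eq_one_iff_unique.1 h
  haveI : Subsingleton (ConnectedComponents α) := ⟨fun a b => (huniq a).trans (huniq b).symm⟩
  obtain ⟨x, -⟩ := ConnectedComponents.surjective_coe c
  haveI : Nonempty α := ⟨x⟩
  haveI : PreconnectedSpace α := preconnectedSpace_iff_connectedComponent.2 fun x => Set.eq_univ_of_forall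
    fun y => ConnectedComponents.coe_eq_coe'.1 (Subsingleton.elim _ _)
  exact ⟨inferInstance⟩

theorem card_eq_one_of_connectedSpace {α : Type*} [TopologicalSpace α] [ConnectedSpace α] :
    ENat.card (ConnectedComponents α) = 1 :=
  ENat.card_eq_one_iff_unique.2 ⟨⟨⟨ConnectedComponents.mk (Classical.arbitrary α)⟩, fun _ => Subsingleton.elim _ _⟩⟩

/-- Connected geometric fibres form an open condition among families with geometrically reduced ones. -/
theorem exists_open_connected (A : CurvSt.SpFamObj S 0) (hA : CurvSt.IsCurveFam A) (V : A.base.left.Opens)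
    (hV : (V : Set A.base.left) ⊆ AlgSp.Points.schemeHomeo A.base ⁻¹' redLocus A) :
    ∃ V₃ : A.base.left.Opens, ∀ (A' : CurvSt.SpFamObj S 0) (φ : A' ⟶ A), CurvSt.IsCurveFam A' →
      Set.range φ.base.left ⊆ (V : Set A.base.left) →
      (CurvSt.GeomFib (fun _ _ _ X' _ _ => ConnectedSpace ↥X') A' ↔
        Set.range φ.base.left ⊆ (V₃ : Set A.base.left)) := by
  let B₁ : Over S := Over.mk (V.ι ≫ A.base.hom)
  let j : B₁ ⟶ A.base := Over.homMk V.ι rfl
  let P₁ : AlgSp.Sp S := pullback A.f ((AlgSp.yon S).map j)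
  have sq₁ : IsPullback (pullback.fst A.f ((AlgSp.yon S).map j)) (pullback.snd A.f ((AlgSp.yon S).map j))
      A.f ((AlgSp.yon S).map j) := IsPullback.of_hasPullback _ _
  have hP₁ : AlgSp.IsAlgSpace P₁ :=
    Groth.Agent.AlgSp.isAlgSpace_of_isPullback' (AlgSp.IsAlgSpace.yon_obj _) hA.1 (AlgSp.IsAlgSpace.yon_obj _) sq₁
  have hpr := AlgSpD.isProperMor_baseChange hA.1 (AlgSp.IsAlgSpace.yon_obj _) sq₁ hA.2.2.1
  have hfl := AlgSpCov.locP_baseChange AlgSpCov.etaleLocal_flat hA.1 (AlgSp.IsAlgSpace.yon_obj _) sq₁ hA.2.1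
  have hfp : AlgSp.IsFinitePresentationMor (pullback.snd A.f ((AlgSp.yon S).map j)) :=
    ⟨AlgSpCov.locP_baseChange AlgSpCov.etaleLocal_locallyOfFinitePresentation hA.1
        (AlgSp.IsAlgSpace.yon_obj _) sq₁ hA.2.2.2.1.1,
      Groth.Agent.AlgSp.isQuasiCompactMor_of_isUnivClosedMor hP₁ (AlgSp.IsAlgSpace.yon_obj _) _ hpr.2.2,
      Groth.Agent.AlgSp.isQuasiSeparatedMor_of_sep hpr.1⟩
  have hE := S10685.result (X := ⟨P₁, hP₁⟩) (Y := ⟨_, AlgSp.IsAlgSpace.yon_obj B₁⟩)
    (ObjectProperty.homMk (pullback.snd A.f ((AlgSp.yon S).map j))) hpr hfl hfp (by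
      intro y k hk k' _ ψ Xk' a b sq
      obtain ⟨K, str, ⟨m⟩⟩ := k
      change Over.mk str ⟶ B₁ at m
      let v : ↥V.toScheme := m.left (IsLocalRing.closedPoint K)
      refine hV (show (V.ι v) ∈ (V : Set A.base.left) from v.2) ⟨K, str, ULift.up (m ≫ j)⟩
        (AlgSp.Points.ofScheme_apply_eq_mk A.base (m ≫ j).left (Over.w (m ≫ j))).symm k' ψ Xk'
        (a ≫ pullback.fst A.f ((AlgSp.yon S).map j)) b ?_
      have sq' := sq.paste_horiz sq₁
      rw [toHom_up, Category.assoc, ← Functor.map_comp] at sq'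
      rw [toHom_up]
      exact sq') 1
  refine ⟨⟨V.ι '' (AlgSp.Points.schemeHomeo B₁ ⁻¹' _),
    V.ι.isOpenEmbedding.isOpenMap _ (hE.preimage (AlgSp.Points.schemeHomeo B₁).continuous)⟩,
    fun A' φ hA' hr => ?_⟩
  constructor
  · rintro H _ ⟨t₁, rfl⟩
    let v : ↥V.toScheme := ⟨φ.base.left t₁, hr ⟨t₁, rfl⟩⟩
    refine ⟨v, ?_, rfl⟩
    intro k hk hgeo Xk a b sq
    obtain ⟨K, str, ⟨m⟩⟩ := k
    change Over.mk str ⟶ B₁ at m
    haveI : IsAlgClosed K := hgeo
    let c : Spec (CommRingCat.of K) ⟶ A.base.left := m.left ≫ V.ι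
    have hc : c (IsLocalRing.closedPoint K) = φ.base.left t₁ := by
      have : m.left (IsLocalRing.closedPoint K) = v := by
        apply (AlgSp.Points.schemeHomeo B₁).injective
        exact (AlgSp.Points.ofScheme_apply_eq_mk B₁ m.left (Over.w m)).trans hk
      exact congrArg V.ι this
    obtain ⟨z, -, -⟩ := Scheme.Pullback.exists_preimage_pullback (f := c) (g := φ.base.left) _ t₁ hc
    let R := pullback c φ.base.left
    let Ω : Type u := AlgebraicClosure (R.residueField z)
    let ω : Spec (CommRingCat.of Ω) ⟶ R :=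
      Spec.map (CommRingCat.ofHom (algebraMap (R.residueField z) Ω)) ≫ R.fromSpecResidueField z
    let σ₁ : Spec (CommRingCat.of Ω) ⟶ Spec (CommRingCat.of K) := ω ≫ pullback.fst c φ.base.left
    let σ₂ : Spec (CommRingCat.of Ω) ⟶ A'.base.left := ω ≫ pullback.snd c φ.base.left
    obtain ⟨X', q, i, hP⟩ := exists_scheme_fibre A' hA' Ω σ₂
    haveI : ConnectedSpace ↥X' := H Ω σ₂ X' q i hP
    haveI : ConnectedSpace ↥(A'.ptOver (q ≫ σ₂)).left := ‹ConnectedSpace ↥X'›
    obtain ⟨X'', q'', i'', hP''⟩ := exists_scheme_fibre A hA K c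
    let cj : Over.mk str ≅ A.ptOver c := Over.isoMk (Iso.refl _) (by
      change 𝟙 _ ≫ (m.left ≫ V.ι) ≫ A.base.hom = str
      rw [Category.id_comp, Category.assoc]
      exact Over.w m)
    have hcj : cj.hom ≫ A.ptHom c = m ≫ j := Over.OverMorphism.ext (Category.id_comp _)
    let τ : A'.ptOver σ₂ ⟶ A.ptOver c := Over.homMk σ₁ (by
      change σ₁ ≫ c ≫ A.base.hom = σ₂ ≫ A'.base.hom
      rw [← Over.w φ.base]
      simp only [σ₁, σ₂, Category.assoc, pullback.condition_assoc])
    have hτ : τ ≫ A.ptHom c = A'.ptHom σ₂ ≫ φ.base := by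
      apply Over.OverMorphism.ext
      simp only [τ, σ₁, σ₂, Over.comp_left, Over.homMk_left, Category.assoc]
      exact congrArg (ω ≫ ·) pullback.condition
    have big : IsPullback (i ≫ φ.top) ((AlgSp.yon S).map (A'.fibHom σ₂ q)) A.f
        ((AlgSp.yon S).map τ ≫ (AlgSp.yon S).map (A.ptHom c)) := by
      rw [← Functor.map_comp, hτ, Functor.map_comp]
      exact hP.paste_horiz φ.cart
    obtain ⟨l, hl⟩ := (AlgSp.yon S).map_surjective
      (hP''.lift (i ≫ φ.top) ((AlgSp.yon S).map (A'.fibHom σ₂ q) ≫ (AlgSp.yon S).map τ)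
        (by rw [big.w, Category.assoc]))
    have sql : IsPullback ((AlgSp.yon S).map l) ((AlgSp.yon S).map (A'.fibHom σ₂ q))
        ((AlgSp.yon S).map (A.fibHom c q'')) ((AlgSp.yon S).map τ) :=
      IsPullback.of_right (by rw [hl, hP''.lift_fst]; exact big) (by rw [hl, hP''.lift_snd]) hP''
    have sql' : IsPullback l.left q q'' σ₁ :=
      (IsPullback.of_map (AlgSp.yon S) ((AlgSp.yon S).map_injective (by
        rw [Functor.map_comp, Functor.map_comp]; exact sql.w)) sql).map (Over.forget S)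
    haveI : Surjective σ₁ := ⟨fun x => ⟨IsLocalRing.closedPoint Ω,
      @Subsingleton.elim _ (inferInstanceAs (Subsingleton (PrimeSpectrum K))) _ _⟩⟩
    haveI : Surjective l.left := MorphismProperty.of_isPullback sql'.flip ‹_›
    haveI : ConnectedSpace ↥X'' := l.left.surjective.connectedSpace l.left.continuous
    have sqk : IsPullback (a ≫ pullback.fst A.f ((AlgSp.yon S).map j)) (b ≫ (AlgSp.yon S).map cj.hom) A.f
        ((AlgSp.yon S).map (A.ptHom c)) := by
      refine (sq.paste_horiz sq₁).of_iso (Iso.refl _) (Iso.refl _) ((AlgSp.yon S).mapIso cj) (Iso.refl _)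
        (by simp) (by simp) (by simp) ?_
      rw [Iso.refl_hom, Category.comp_id, toHom_up, Functor.mapIso_hom, ← Functor.map_comp,
        ← Functor.map_comp, hcj]
    let e := hP''.isoIsPullback _ _ sqk
    have hsurj : Function.Surjective (fun x : ↥X'' => AlgSp.Points.map e.hom
        (AlgSp.Points.schemeHomeo (A.ptOver (q'' ≫ c)) x)) := fun y =>
      ⟨(AlgSp.Points.schemeHomeo (A.ptOver (q'' ≫ c))).symm (AlgSp.Points.map e.inv y), by
        simp only [Homeomorph.apply_symm_apply, ← AlgSp.Points.map_comp, Iso.inv_hom_id,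
          AlgSp.Points.map_id]⟩
    haveI : ConnectedSpace (AlgSp.Points Xk) := hsurj.connectedSpace
      ((AlgSp.Points.continuous_map _).comp (Homeomorph.continuous _))
    exact card_eq_one_of_connectedSpace
  · intro H Ω _ _ t X' q i hP
    have hrng : Set.range (t ≫ φ.base.left) ⊆ Set.range V.ι := by
      rintro _ ⟨x, rfl⟩
      rw [Scheme.Opens.range_ι]
      exact hr ⟨t x, rfl⟩
    let m : A'.ptOver t ⟶ B₁ := Over.homMk (IsOpenImmersion.lift V.ι (t ≫ φ.base.left) hrng) (by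
      change _ ≫ V.ι ≫ A.base.hom = t ≫ A'.base.hom
      rw [IsOpenImmersion.lift_fac_assoc, Category.assoc, Over.w φ.base])
    have hm : m ≫ j = A'.ptHom t ≫ φ.base := Over.OverMorphism.ext (IsOpenImmersion.lift_fac _ _ _)
    obtain ⟨v, hv, hvt⟩ := H ⟨t (IsLocalRing.closedPoint Ω), rfl⟩
    have hv' : m.left (IsLocalRing.closedPoint Ω) = v := V.ι.isOpenEmbedding.injective (by
      rw [hvt]
      exact congrArg (fun k : A'.ptOver t ⟶ A.base => k.left (IsLocalRing.closedPoint Ω)) hm)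
    have big : IsPullback (i ≫ φ.top) ((AlgSp.yon S).map (A'.fibHom t q)) A.f
        ((AlgSp.yon S).map m ≫ (AlgSp.yon S).map j) := by
      rw [← Functor.map_comp, hm, Functor.map_comp]
      exact hP.paste_horiz φ.cart
    have h1 := hv ⟨Ω, t ≫ A'.base.hom, ULift.up m⟩
      ((AlgSp.Points.ofScheme_apply_eq_mk B₁ m.left (Over.w m)).symm.trans (congrArg _ hv'))
      (inferInstanceAs (IsAlgClosed Ω)) _
      (sq₁.lift (i ≫ φ.top) ((AlgSp.yon S).map (A'.fibHom t q) ≫ (AlgSp.yon S).map m) (by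
        rw [big.w, Category.assoc]))
      ((AlgSp.yon S).map (A'.fibHom t q))
      (by
        rw [toHom_up]
        exact IsPullback.of_right (by rw [sq₁.lift_fst]; exact big) (sq₁.lift_snd _ _ _) sq₁)
    haveI := connectedSpace_of_card_eq_one h1
    exact (AlgSp.Points.schemeHomeo (A'.ptOver (q ≫ t))).symm.surjective.connectedSpace (Homeomorph.continuous _)

/-- Reduced, connected, of dimension one. -/
abbrev RedConnDimOne (A : CurvSt.SpFamObj S 0) : Prop :=
  CurvSt.GeomFib (fun _ _ _ X' _ _ => IsReduced X' ∧ ConnectedSpace ↥X' ∧ topologicalKrullDim ↥X' = 1) A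

theorem redConnDimOne_iff (A : CurvSt.SpFamObj S 0) (hA : CurvSt.IsCurveFam A) :
    RedConnDimOne A ↔ GeomRed A ∧ CurvSt.GeomFib (fun _ _ _ X' _ _ => ConnectedSpace ↥X') A ∧
      AlgSp.LocP (pw fun U V h x => MoreMor.IsCMAt h x ∧ DimEq ((1 : ℕ) : WithBot ℕ∞) U V h x) A.f := by
  have hQ := good_and_dimEq good_cm.{u} (fun _ _ _ _ _ _ H => H) 1
  have hA₀ := hA
  obtain ⟨hX, hflat, -, hfp, hdim⟩ := hA
  obtain ⟨U₀, p, hp, hs⟩ := hX.atlas
  obtain ⟨h, hh⟩ := (AlgSp.yon S).map_surjective (p ≫ A.f)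
  have hid : AlgSp.RepWith @Etale (𝟙 ((AlgSp.yon S).obj A.base)) := AlgSp.repWith_id _ _
  have w0 : p ≫ A.f = (AlgSp.yon S).map h ≫ 𝟙 _ := by rw [Category.comp_id]; exact hh.symm
  haveI : Flat h.left := hflat p (𝟙 _) h hp hid w0
  haveI : LocallyOfFinitePresentation h.left := hfp.1 p (𝟙 _) h hp hid w0
  have hle : ∀ x, FlatMor.fibreDimAt h.left x ≤ ((1 : ℕ) : WithBot ℕ∞) := fun x =>
    (AlgSpD.hasAtMor_iff_chart (Q := fun _ _ h u => FlatMor.fibreDimAt h u ≤ ((1 : ℕ) : WithBot ℕ∞))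
      (fun _ _ _ _ p q h' h _ _ w u => by
        show FlatMor.fibreDimAt h' u ≤ _ ↔ FlatMor.fibreDimAt h (p u) ≤ _
        rw [AlgSpD.fibreDimAt_inv p q h' h w u])
      (X := ⟨A.X, hX⟩) (Y := ⟨(AlgSp.yon S).obj A.base, AlgSp.IsAlgSpace.yon_obj _⟩)
      (ObjectProperty.homMk A.f) hp hid w0 x).1 (hdim _)
  rw [locP_pw_iff hQ A.f hflat hfp.1 hp hs hh.symm]
  constructor
  · intro H
    have hR : GeomRed A := fun Ω _ _ t X' q i hP => (H Ω t X' q i hP).1
    refine ⟨hR, fun Ω _ _ t X' q i hP => (H Ω t X' q i hP).2.1, fun u => ⟨?_, ?_⟩⟩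
    · exact (locP_pw_iff good_cm A.f hflat hfp.1 hp hs hh.symm).1 (locP_cm_of_geomRed A hA₀ hR) u
    · let Ω : Type u := AlgebraicClosure (A.base.left.residueField (h.left u))
      let t : Spec (CommRingCat.of Ω) ⟶ A.base.left :=
        Spec.map (CommRingCat.ofHom (algebraMap (A.base.left.residueField (h.left u)) Ω)) ≫
          A.base.left.fromSpecResidueField (h.left u)
      obtain ⟨X', q, i, hP⟩ := exists_scheme_fibre A hA₀ Ω t
      obtain ⟨hr, hc, hd⟩ := H Ω t X' q i hP
      haveI := hr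
      haveI := hc
      haveI : LocallyOfFinitePresentation q := by
        have h1 := AlgSpCov.locP_baseChange AlgSpCov.etaleLocal_locallyOfFinitePresentation hX
          (AlgSp.IsAlgSpace.yon_obj _) hP hfp.1
        exact h1 (𝟙 _) (𝟙 _) (A.fibHom t q) (AlgSp.repWith_id _ _) (AlgSp.repWith_id _ _) (by simp)
      obtain ⟨hall, hsome⟩ := fibre_chart A hp hs hh hP
      obtain ⟨x', hx'⟩ := hsome u (Scheme.fromSpecResidueField_apply _ _).symm
      show FlatMor.fibreDimAt h.left u = _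
      rw [← hx']
      exact localDim_eq_one q (fun y => by
        obtain ⟨u', e⟩ := hall y
        rw [e]
        exact hle u') hd x'
  · rintro ⟨hR, hC, H⟩ Ω _ _ t X' q i hP
    refine ⟨hR Ω t X' q i hP, hC Ω t X' q i hP, ?_⟩
    haveI : ConnectedSpace ↥X' := hC Ω t X' q i hP
    exact topologicalKrullDim_eq_one fun y => by
      obtain ⟨u', e⟩ := (fibre_chart A hp hs hh hP).1 y
      rw [e]
      exact (H u').2

/-- The families with reduced connected fibres of dimension one form an open substack. -/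
theorem isOpenSubstack_redConnDimOne (hC : AlgSt.IsAlgStack Scheme.fppfPrecoverage (CurvSt.Curves S 0)) :
    AlgSt.IsOpenSubstack (CurvSt.Curves S 0) (fun A => RedConnDimOne A.obj) Scheme.fppfPrecoverage := by
  refine isOpenSubstack_of_exists_open hC RedConnDimOne fun A hA => ?_
  have hopen := S10682.result (X := ⟨A.X, hA.1⟩) (Y := ⟨_, AlgSp.IsAlgSpace.yon_obj A.base⟩)
    (ObjectProperty.homMk A.f) hA.2.1 hA.2.2.1 hA.2.2.2.1
  let V₁ : A.base.left.Opens := ⟨_, hopen.preimage (AlgSp.Points.schemeHomeo A.base).continuous⟩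
  obtain ⟨V₂, hV₂⟩ := exists_open (good_and_dimEq good_cm.{u} (fun _ _ _ _ _ _ H => H) 1) hA
  obtain ⟨V₃, hV₃⟩ := exists_open_connected A hA V₁ subset_rfl
  refine ⟨V₁ ⊓ V₂ ⊓ V₃, fun A' φ hA' => (redConnDimOne_iff A' hA').trans ?_⟩
  simp only [TopologicalSpace.Opens.coe_inf, Set.subset_inter_iff]
  refine ⟨fun ⟨h1, h3, h2⟩ => ?_, fun ⟨⟨h1, h2⟩, h3⟩ => ?_⟩
  · have h1' : Set.range φ.base.left ⊆ (V₁ : Set A.base.left) := (geomRed_iff hA hA' φ).1 h1
    exact ⟨⟨h1', (hV₂ A' φ hA').1 h2⟩, (hV₃ A' φ hA' h1').1 h3⟩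
  · exact ⟨(geomRed_iff hA hA' φ).2 h1, (hV₃ A' φ hA' h1).2 h3, (hV₂ A' φ hA').2 h2⟩

/-- The projective line has reduced connected geometric fibres of dimension one. -/
theorem nonempty_fiber_redConnDimOne {Ω : Type u} [Field Ω] (t : Spec (CommRingCat.of Ω) ⟶ S) :
    Nonempty ((AlgSt.fullSub (CurvSt.Curves S 0) (fun A => RedConnDimOne A.obj)).p.Fiber (Over.mk t)) := by
  haveI : Smooth (CohB1.ProjSpace.toSpec 1 Ω) := CohOps.PnSmooth.smooth_toSpec 1 Ω
  haveI : SmoothOfRelativeDimension 1 (CohB1.ProjSpace.toSpec 1 Ω) :=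
    P1Smooth.smoothOfRelativeDimension_toSpec 1 Ω
  haveI : IsProper (CohB1.ProjSpace.toSpec 1 Ω) := ProjProper.Basic.isProper_toSpec 1 Ω
  have hd : ∀ x : ↥(CohB1.ProjSpace 1 Ω), FlatMor.localDim _ x ≤ ((1 : ℕ) : WithBot ℕ∞) := fun x => by
    rw [← AlgSpEN.fibreDimAt_field (K := Ω) (CohB1.ProjSpace.toSpec 1 Ω) x, S2768.result 1 _ x]
  refine nonempty_fiber t (CohB1.ProjSpace.toSpec 1 Ω) hd (fun A => RedConnDimOne A.obj) ?_
  refine (StFieldLib.geomFib_iff S t _ fun _ _ _ X' _ =>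
    IsReduced X' ∧ ConnectedSpace ↥X' ∧ topologicalKrullDim ↥X' = 1).2 ?_
  intro K _ _ s X' q i₀ sq
  obtain ⟨φ, rfl⟩ : ∃ φ : Ω →+* K, Spec.map (CommRingCat.ofHom φ) = s :=
    ⟨(Spec.preimage s).hom, Spec.map_preimage s⟩
  let e := sq.isoIsPullback _ _ (ProperFin.isPullback_pnMap 1 φ)
  haveI := S18573.irreducibleSpace_projSpace 1 K
  haveI : SmoothOfRelativeDimension 1 (CohB1.ProjSpace.toSpec 1 K) :=
    P1Smooth.smoothOfRelativeDimension_toSpec 1 K
  haveI : Smooth (CohB1.ProjSpace.toSpec 1 K) := CohOps.PnSmooth.smooth_toSpec 1 K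
  haveI : ∀ y : ↥(CohB1.ProjSpace 1 K), _root_.IsReduced ((CohB1.ProjSpace 1 K).presheaf.stalk y) := fun y => by
    haveI := CurveDVR.isRegularLocalRing_stalk (CohB1.ProjSpace.toSpec 1 K) y
    haveI := RegLoc.isDomain ((CohB1.ProjSpace 1 K).presheaf.stalk y)
    infer_instance
  haveI : IsReduced (CohB1.ProjSpace 1 K) := isReduced_of_isReduced_stalk _
  haveI : IsReduced X' := AlgSpB.isReduced_of_etale e.hom
  haveI : ConnectedSpace ↥X' := e.inv.surjective.connectedSpace e.inv.continuous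
  refine ⟨inferInstance, inferInstance, topologicalKrullDim_eq_one fun x => ?_⟩
  rw [← AlgSpD.localDim_apply_eq e.hom x, ← AlgSpEN.fibreDimAt_field (K := K) (CohB1.ProjSpace.toSpec 1 K),
    S2768.result 1 _ _]

end Groth.Agent.CurvLoci
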