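import Groth.Agent.S10048
import Groth.Agent.S1607
import Groth.Agent.GrpdLib.DimOnePts
import Groth.Agent.DimZeroSp.Basic
import Groth.Agent.AlgSpB.Chev.Main
import Groth.Agent.AlgSpEN.FpqcHom
import Groth.Agent.AlgSpD.DecentQs
import Groth.Agent.AlgSp.ChowLib

/-!
# Separated algebraic spaces of dimension at most one over an affine base are schemes

A finite surjective cover by a scheme sends the complement of an affine open containing a fibre to a
closed set; over the open complement of that set the cover is affine, so Chevalley's theorem applies.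
-/

set_option autoImplicit false
set_option backward.isDefEq.respectTransparency false
set_option backward.isDefEq.respectTransparency.types false
set_option linter.style.haveILetI false

universe u

open CategoryTheory CategoryTheory.Limits AlgebraicGeometry TopologicalSpace

namespace Groth.Agent.CurvLoci.DimOneSp

open Groth.Agent

variable {S : Scheme.{u}}

/-- A separated space with a quasi-compact Noetherian chart of dimension at most one is a scheme. -/
theorem isRepresentable_of_dim_le_one [IsAffine S] (X : AlgSp.Space S)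
    (hsep : AlgSp.IsSeparatedSp X.obj) {U : Over S} {a : (AlgSp.yon S).obj U ⟶ X.obj}
    (ha : AlgSp.RepWith @Etale a) (has : AlgSp.RepWith @Surjective a) [CompactSpace ↥U.left]
    [IsLocallyNoetherian U.left] (hd : ∀ u : ↥U.left, ringKrullDim (U.left.presheaf.stalk u) ≤ 1) :
    X.obj.obj.IsRepresentable := by
  have hqs : AlgSp.IsQuasiSeparatedSp X.obj :=
    Groth.Agent.AlgSp.repWith_mono (fun g (hg : IsClosedImmersion g) => (inferInstance : QuasiCompact g)) hsep
  obtain ⟨Z, π, hπ, hπs, -, -⟩ := S10048.result S X ⟨U, a, ha, has, ‹_›⟩ hqs U a ha has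
  have hπf : AlgSp.RepWith @IsFinite π := (AlgSpD.isFiniteMor_iff _).1 hπ
  obtain ⟨V, φ, snd, sq⟩ := AlgSpB.exists_pullback_yon hπf.1 a
  have : IsFinite snd.left := hπf.2 _ _ _ sq
  have : Etale φ.left := ha.2 _ _ _ sq.flip
  have : Surjective φ.left := has.2 _ _ _ sq.flip
  have : IsLocallyNoetherian V.left := LocallyOfFiniteType.isLocallyNoetherian snd.left
  have : IsLocallyNoetherian Z.left := AlgSpD.isLocallyNoetherian_of_etale_surjective φ.left
  have hstalk : ∀ z : ↥Z.left, IsNoetherianRing (Z.left.presheaf.stalk z) ∧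
      ringKrullDim (Z.left.presheaf.stalk z) ≤ 1 := by
    intro z
    refine ⟨inferInstance, ?_⟩
    obtain ⟨v, rfl⟩ := φ.left.surjective z
    rw [AlgSpD.ringKrullDim_stalk_eq φ.left v]
    exact (AlgSpD.ringKrullDim_stalk_le snd.left v).trans (hd _)
  have : IsSeparated Z.hom := by
    refine Groth.Agent.AlgSp.ChowLib.isSeparated_hom_of_sp (Groth.Agent.AlgSp.ChowLib.isSeparatedSp_of_mor π ?_ hsep)
    exact (Groth.Agent.AlgSp.repWith_diagonal_iff_of_representable @IsClosedImmersion @IsSeparated
      (fun h => ⟨fun H => ⟨H⟩, fun H => H.isClosedImmersion_diagonal⟩) (AlgSp.IsAlgSpace.yon_obj Z) hπf.1).2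
      (Groth.Agent.AlgSp.repWith_mono (fun g (hg : IsFinite g) => (inferInstance : IsSeparated g)) hπf)
  have : Z.left.IsSeparated := ⟨by
    rw [← terminal.comp_from Z.hom]
    infer_instance⟩
  let p : ↥Z.left → AlgSp.Points X.obj := AlgSp.Points.ofPt π
  have hpsnd : ∀ v, p (φ.left v) = AlgSp.Points.ofPt a (snd.left v) := fun v => by
    change AlgSp.Points.ofPt π (φ.left v) = _
    rw [← AlgSpB.ofPt_map_comp, sq.w, AlgSpB.ofPt_map_comp]
  have hlift : ∀ z u, p z = AlgSp.Points.ofPt a u → ∃ v, φ.left v = z ∧ snd.left v = u := by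
    intro z u h
    obtain ⟨q, h1, h2⟩ := AlgSpB.exists_of_isPullback sq (AlgSp.Points.ofScheme Z z)
      (AlgSp.Points.ofScheme U u) (by
        rw [← AlgSp.Points.ofPt_eq_map_ofScheme, ← AlgSp.Points.ofPt_eq_map_ofScheme]; exact h)
    obtain ⟨v, rfl⟩ : ∃ v, AlgSp.Points.ofScheme V v = q := ⟨_, AlgSp.Points.ofScheme_toScheme V q⟩
    replace h1 := (AlgSp.Points.map_yon_map_apply φ v).symm.trans h1
    replace h2 := (AlgSp.Points.map_yon_map_apply snd v).symm.trans h2
    exact ⟨v, (AlgSp.Points.schemeHomeo Z).injective h1, (AlgSp.Points.schemeHomeo U).injective h2⟩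
  refine DimZeroSp.isRepresentable_of_forall_nhd X fun x => ?_
  obtain ⟨u, rfl⟩ := AlgSpB.surjective_ofPt has x
  have hfin : (p ⁻¹' {AlgSp.Points.ofPt a u}).Finite := by
    refine Set.Finite.subset ((snd.left.finite_preimage_singleton u).image φ.left) ?_
    intro z hz
    obtain ⟨v, h1, h2⟩ := hlift z u hz
    exact ⟨v, h2, h1⟩
  obtain ⟨A, hA, hAs⟩ := GrpdLib.exists_affine_of_dim_le_one hfin fun z _ => hstalk z
  have hC : IsClosed (p '' (A : Set ↥Z.left)ᶜ) := by
    rw [← (AlgSpB.isOpenQuotientMap_ofPt ha has).isQuotientMap.isClosed_preimage]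
    have : AlgSp.Points.ofPt a ⁻¹' (p '' (A : Set ↥Z.left)ᶜ) =
        snd.left '' (φ.left ⁻¹' (A : Set ↥Z.left)ᶜ) := by
      ext w
      constructor
      · rintro ⟨z, hz, e⟩
        obtain ⟨v, rfl, rfl⟩ := hlift z w e
        exact ⟨v, hz, rfl⟩
      · rintro ⟨v, hv, rfl⟩
        exact ⟨φ.left v, hv, hpsnd v⟩
    rw [this]
    exact snd.left.isClosedMap _ (A.2.isClosed_compl.preimage φ.left.continuous)
  obtain ⟨X', j, hj, hrange⟩ := AlgSpB.exists_openSubspace X hC.isOpen_compl
  refine ⟨X', j, hj, ?_, ?_⟩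
  swap
  · rw [hrange]
    rintro ⟨z, hz, e⟩
    exact hz (hAs e)
  obtain ⟨Z', snd', fst', sq'⟩ := hj.1 π
  have : IsOpenImmersion snd'.left := hj.2 _ _ _ sq'
  have hr : Set.range snd'.left = p ⁻¹' (p '' (A : Set ↥Z.left)ᶜ)ᶜ := by
    rw [AlgSpB.range_snd_eq sq', hrange]
  have hsub : Set.range snd'.left ⊆ (A : Set ↥Z.left) := by
    rw [hr]
    intro z hz
    exact by_contra fun h => hz ⟨z, h, rfl⟩
  have : IsAffine A.toScheme := hA
  have : IsLocallyNoetherian A.toScheme := LocallyOfFiniteType.isLocallyNoetherian A.ι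
  have : IsNoetherian A.toScheme := {}
  let W : A.toScheme.Opens := A.ι ⁻¹ᵁ snd'.left.opensRange
  have hW : IsAffineOpen W := S1607.result A.toScheme (fun z => ⟨inferInstance, by
    rw [← AlgSpD.ringKrullDim_stalk_eq A.ι z]; exact (hstalk _).2⟩) W (NoetherianSpace.isCompact _)
  have hW' : IsAffineOpen snd'.left.opensRange := by
    have e : A.ι ''ᵁ W = snd'.left.opensRange := by
      rw [Scheme.Hom.image_preimage_eq_opensRange_inf, Scheme.Opens.opensRange_ι, inf_eq_right]
      exact hsub
    rw [← e]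
    exact hW.image_of_isOpenImmersion A.ι
  have : IsAffine snd'.left.opensRange.toScheme := hW'
  have : IsAffine Z'.left := .of_isIso snd'.left.isoOpensRange.hom
  have hfst : AlgSp.RepWith @IsFinite fst' := AlgSpCov.repWith_bc sq'.flip hπf
  have hπs' : AlgSp.RepWith @Surjective π := (Groth.Agent.AlgSp.repWith_surjective_iff π hπf.1).2 hπs
  obtain ⟨T, -, ⟨e⟩⟩ := AlgSpB.Chev.exists_affine_of_univClosed X' fst'
    (Groth.Agent.AlgSp.repWith_mono (fun g (hg : IsFinite g) => (inferInstance : UniversallyClosed g)) hfst)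
    (AlgSpCov.repWith_bc sq'.flip hπs')
  exact AlgSpB.isRepresentable_of_iso e

end Groth.Agent.CurvLoci.DimOneSp
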