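import Groth.Prelude.Def_StCurv2
import Groth.Agent.StFib.OpenLocusU
import Groth.Agent.AlgSpD.RelDim
import Mathlib.AlgebraicGeometry.Morphisms.FinitePresentation
import Mathlib.AlgebraicGeometry.Morphisms.Flat
import Groth.Agent.AlgSpCov.Sheaf
import Groth.Agent.AlgSpB.Points

/-!
# Open loci in the stack of curves cut out by pointwise properties of the structure morphism
-/

set_option autoImplicit false
set_option backward.isDefEq.respectTransparency false
set_option backward.isDefEq.respectTransparency.types false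
set_option linter.style.haveILetI false

universe u

open CategoryTheory CategoryTheory.Limits AlgebraicGeometry

namespace Groth.Agent.CurvLoci

open Groth.Agent Groth.Agent.AlgSpD

/-- A pointwise property of morphisms of schemes, read at every point. -/
abbrev pw (Q : ∀ (U V : Scheme.{u}), (U ⟶ V) → ↥U → Prop) : MorphismProperty Scheme.{u} :=
  fun U V h => ∀ x, Q U V h x

/-- A pointwise property, etale local, open and stable under base change for flat morphisms locally of
finite presentation. -/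
structure Good (Q : ∀ (U V : Scheme.{u}), (U ⟶ V) → ↥U → Prop) : Prop where
  inv : ∀ ⦃U' U V' V : Scheme.{u}⦄ (p : U' ⟶ U) (q : V' ⟶ V) (h' : U' ⟶ V') (h : U ⟶ V)
    [Etale p] [Etale q] [Flat h'] [LocallyOfFinitePresentation h'] [Flat h] [LocallyOfFinitePresentation h],
    h' ≫ q = p ≫ h → ∀ u : ↥U', Q U' V' h' u ↔ Q U V h (p u)
  isOpen : ∀ ⦃U V : Scheme.{u}⦄ (h : U ⟶ V) [Flat h] [LocallyOfFinitePresentation h],
    IsOpen {u | Q U V h u}
  bc : ∀ ⦃U V U' V' : Scheme.{u}⦄ (h : U ⟶ V) (k : V' ⟶ V) (fst : U' ⟶ U) (h' : U' ⟶ V') [Flat h]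
    [LocallyOfFinitePresentation h], IsPullback fst h' h k → ∀ u', Q U' V' h' u' ↔ Q U V h (fst u')

variable {S : Scheme.{u}}

/-- The value of a good condition does not depend on the chart diagram. -/
theorem agree {Q : ∀ (U V : Scheme.{u}), (U ⟶ V) → ↥U → Prop} (hQ : Good Q) {F G : AlgSp.Sp S}
    {f : F ⟶ G} (hfl : AlgSp.LocP @Flat f) (hfp : AlgSp.LocP @LocallyOfFinitePresentation f)
    {U V U' V' : Over S} {a : (AlgSp.yon S).obj U ⟶ F} {b : (AlgSp.yon S).obj V ⟶ G} {h : U ⟶ V}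
    {a' : (AlgSp.yon S).obj U' ⟶ F} {b' : (AlgSp.yon S).obj V' ⟶ G} {h' : U' ⟶ V'}
    (ha : AlgSp.RepWith @Etale a) (hb : AlgSp.RepWith @Etale b) (ha' : AlgSp.RepWith @Etale a')
    (hb' : AlgSp.RepWith @Etale b') (w : a ≫ f = (AlgSp.yon S).map h ≫ b)
    (w' : a' ≫ f = (AlgSp.yon S).map h' ≫ b') {u : ↥U.left} {u' : ↥U'.left}
    (e : AlgSp.Points.ofPt a' u' = AlgSp.Points.ofPt a u) :
    Q U'.left V'.left h'.left u' ↔ Q U.left V.left h.left u := by
  obtain ⟨R, p', p, r, sq, hp', hp, hr', hr⟩ := exists_common_chart ha' ha e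
  obtain ⟨W, q', q, sqW⟩ := AlgSpB.exists_pullback_yon hb'.1 b
  have hw : (AlgSp.yon S).map (p' ≫ h') ≫ b' = (AlgSp.yon S).map (p ≫ h) ≫ b := by
    rw [Functor.map_comp, Functor.map_comp, Category.assoc, Category.assoc, ← w, ← w', sq.w_assoc]
  obtain ⟨m, hm⟩ := (AlgSp.yon S).map_surjective (sqW.lift _ _ hw)
  have h1 : m ≫ q' = p' ≫ h' := (AlgSp.yon S).map_injective (by rw [Functor.map_comp, hm, sqW.lift_fst])
  have h2 : m ≫ q = p ≫ h := (AlgSp.yon S).map_injective (by rw [Functor.map_comp, hm, sqW.lift_snd])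
  haveI : Etale p'.left := hp'
  haveI : Etale p.left := hp
  haveI : Etale q'.left := hb.2 _ _ _ sqW.flip
  haveI : Etale q.left := hb'.2 _ _ _ sqW
  have hR : AlgSp.RepWith @Etale ((AlgSp.yon S).map p ≫ a) := AlgSpB.repWith_etale_map_comp p ha
  have hW : AlgSp.RepWith @Etale ((AlgSp.yon S).map q ≫ b) := AlgSpB.repWith_etale_map_comp q hb
  have wm : ((AlgSp.yon S).map p ≫ a) ≫ f = (AlgSp.yon S).map m ≫ ((AlgSp.yon S).map q ≫ b) := by
    rw [Category.assoc, w, ← Category.assoc, ← Functor.map_comp, ← h2, Functor.map_comp, Category.assoc]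
  haveI : Flat m.left := hfl _ _ _ hR hW wm
  haveI : LocallyOfFinitePresentation m.left := hfp _ _ _ hR hW wm
  haveI : Flat h.left := hfl _ _ _ ha hb w
  haveI : LocallyOfFinitePresentation h.left := hfp _ _ _ ha hb w
  haveI : Flat h'.left := hfl _ _ _ ha' hb' w'
  haveI : LocallyOfFinitePresentation h'.left := hfp _ _ _ ha' hb' w'
  have k1 := hQ.inv p'.left q'.left m.left h'.left (by simpa using congrArg CommaMorphism.left h1) r
  have k2 := hQ.inv p.left q.left m.left h.left (by simpa using congrArg CommaMorphism.left h2) r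
  rw [← hr', ← hr]
  exact k1.symm.trans k2

/-- A good condition read on all chart diagrams can be tested on one atlas. -/
theorem locP_pw_iff {Q : ∀ (U V : Scheme.{u}), (U ⟶ V) → ↥U → Prop} (hQ : Good Q) {F : AlgSp.Sp S}
    {T U : Over S} (f : F ⟶ (AlgSp.yon S).obj T) (hfl : AlgSp.LocP @Flat f)
    (hfp : AlgSp.LocP @LocallyOfFinitePresentation f) {p : (AlgSp.yon S).obj U ⟶ F}
    (hp : AlgSp.RepWith @Etale p) (hs : AlgSp.RepWith @Surjective p) {h : U ⟶ T}
    (w : p ≫ f = (AlgSp.yon S).map h) :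
    AlgSp.LocP (pw Q) f ↔ ∀ u, Q U.left T.left h.left u := by
  have hid : AlgSp.RepWith @Etale (𝟙 ((AlgSp.yon S).obj T)) := AlgSp.repWith_id _ _
  have w' : p ≫ f = (AlgSp.yon S).map h ≫ 𝟙 _ := by rw [Category.comp_id]; exact w
  refine ⟨fun hf => hf p (𝟙 _) h hp hid w', fun H W V a b h' ha hb e x => ?_⟩
  obtain ⟨u, hu⟩ := AlgSpB.surjective_ofPt hs (AlgSp.Points.ofPt a x)
  exact (agree hQ hfl hfp hp hid ha hb w' e hu.symm).2 (H u)

/-- For a family of curves the locus of the base over which a good condition holds is open, and its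
formation commutes with base change. -/
theorem exists_open {Q : ∀ (U V : Scheme.{u}), (U ⟶ V) → ↥U → Prop} (hQ : Good Q)
    {A : CurvSt.SpFamObj S 0} (hA : CurvSt.IsCurveFam A) :
    ∃ V : A.base.left.Opens, ∀ (A' : CurvSt.SpFamObj S 0) (φ : A' ⟶ A), CurvSt.IsCurveFam A' →
      (AlgSp.LocP (pw Q) A'.f ↔ Set.range φ.base.left ⊆ (V : Set A.base.left)) := by
  obtain ⟨hX, hflat, hprop, hfp, -⟩ := hA
  obtain ⟨U, p, hp, hs⟩ := hX.atlas
  obtain ⟨h, hh⟩ := (AlgSp.yon S).map_surjective (p ≫ A.f)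
  have hid : AlgSp.RepWith @Etale (𝟙 ((AlgSp.yon S).obj A.base)) := AlgSp.repWith_id _ _
  haveI : Flat h.left := hflat p (𝟙 _) h hp hid (by rw [Category.comp_id, hh])
  haveI : LocallyOfFinitePresentation h.left := hfp.1 p (𝟙 _) h hp hid (by rw [Category.comp_id, hh])
  let B : Set ↥U.left := {u | ¬ Q U.left A.base.left h.left u}
  have hB : IsClosed B := isOpen_compl_iff.1 (by
    simpa [B, Set.compl_setOf] using hQ.isOpen h.left)
  have hsat : AlgSp.Points.ofPt p ⁻¹' (AlgSp.Points.ofPt p '' B) = B := by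
    refine subset_antisymm ?_ (Set.subset_preimage_image _ _)
    rintro x ⟨y, hy, e⟩ hx
    have w' : p ≫ A.f = (AlgSp.yon S).map h ≫ 𝟙 _ := by rw [Category.comp_id]; exact hh.symm
    exact hy ((agree hQ hflat hfp.1 hp hid hp hid w' w' e).2 hx)
  have hCl : IsClosed (AlgSp.Points.ofPt p '' B) := by
    rw [← (AlgSpB.isOpenQuotientMap_ofPt hp hs).isQuotientMap.isClosed_preimage, hsat]
    exact hB
  have hcm : AlgSp.IsClosedMor A.f :=
    hprop.2.2 (AlgSp.IsAlgSpace.yon_obj _) (𝟙 _) (𝟙 _) A.f (IsPullback.of_horiz_isIso ⟨by simp⟩)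
  have hpt : ∀ x, AlgSp.Points.map A.f (AlgSp.Points.ofPt p x) =
      AlgSp.Points.schemeHomeo A.base (h.left x) := fun x => by
    rw [AlgSp.Points.map_ofPt, ← hh]
    have := AlgSpB.ofPt_map_comp h (𝟙 ((AlgSp.yon S).obj A.base)) x
    rw [Category.comp_id] at this
    exact this
  have himg : IsClosed (h.left '' B) := by
    have h1 := (hcm _ hCl).preimage (AlgSp.Points.schemeHomeo A.base).continuous
    convert h1 using 1
    ext t
    constructor
    · rintro ⟨x, hx, rfl⟩
      exact ⟨_, ⟨x, hx, rfl⟩, hpt x⟩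
    · rintro ⟨_, ⟨x, hx, rfl⟩, e⟩
      exact ⟨x, hx, (AlgSp.Points.schemeHomeo A.base).injective ((hpt x).symm.trans e)⟩
  refine ⟨⟨(h.left '' B)ᶜ, himg.isOpen_compl⟩, fun A' φ hA' => ?_⟩
  let W : Over S := pullback h φ.base
  let fst : W ⟶ U := pullback.fst h φ.base
  let snd : W ⟶ A'.base := pullback.snd h φ.base
  have hW : IsPullback fst snd h φ.base := IsPullback.of_hasPullback _ _
  have hW' := hW.map (AlgSp.yon S)
  let d : (AlgSp.yon S).obj W ⟶ A'.X := φ.cart.lift ((AlgSp.yon S).map fst ≫ p) ((AlgSp.yon S).map snd) (by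
    rw [Category.assoc, ← hh]; exact hW'.w)
  have sqd : IsPullback ((AlgSp.yon S).map fst) d p φ.top :=
    IsPullback.of_bot (by rw [IsPullback.lift_snd, ← hh]; exact hW') (IsPullback.lift_fst _ _ _ _).symm
      φ.cart
  have hde : AlgSp.RepWith @Etale d := AlgSpCov.repWith_bc sqd hp
  have hds : AlgSp.RepWith @Surjective d := AlgSpCov.repWith_bc sqd hs
  rw [locP_pw_iff hQ A'.f hA'.2.1 hA'.2.2.2.1.1 hde hds (IsPullback.lift_snd _ _ _ _)]
  have hWl : IsPullback fst.left snd.left h.left φ.base.left := hW.map (Over.forget S)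
  refine ⟨fun H => ?_, fun hr w => ?_⟩
  · rintro _ ⟨t, rfl⟩ ⟨x, hx, hxt⟩
    obtain ⟨w, h1, -⟩ := Scheme.exists_preimage_of_isPullback hWl x t hxt
    subst h1
    exact hx ((hQ.bc h.left φ.base.left fst.left snd.left hWl w).1 (H w))
  · refine (hQ.bc h.left φ.base.left fst.left snd.left hWl w).2 (by_contra fun hn => ?_)
    refine hr ⟨snd.left w, rfl⟩ ⟨fst.left w, hn, ?_⟩
    rw [← Scheme.Hom.comp_apply, hWl.w, Scheme.Hom.comp_apply]

/-- A condition on families whose locus is open on every base cuts out an open substack of the stack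
of curves. -/
theorem isOpenSubstack_of_exists_open {n : ℕ}
    (hC : AlgSt.IsAlgStack Scheme.fppfPrecoverage (CurvSt.Curves S n)) (P : CurvSt.SpFamObj S n → Prop)
    (H : ∀ (A : CurvSt.SpFamObj S n), CurvSt.IsCurveFam A → ∃ V : A.base.left.Opens,
      ∀ (A' : CurvSt.SpFamObj S n) (φ : A' ⟶ A), CurvSt.IsCurveFam A' →
        (P A' ↔ Set.range φ.base.left ⊆ (V : Set A.base.left))) :
    AlgSt.IsOpenSubstack (CurvSt.Curves S n) (fun A => P A.obj) Scheme.fppfPrecoverage := by
  refine StFibU.isOpenSubstack_of_openLoci hC _ (fun {x y} φ hx => ?_) fun U y => ?_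
  · obtain ⟨V, hV⟩ := H x.obj x.property
    refine (hV _ φ.hom y.property).2 ?_
    rintro _ ⟨t, rfl⟩
    exact (hV _ (𝟙 x.obj) x.property).1 hx ⟨φ.hom.base.left t, rfl⟩
  · let g₁ : (FibCat.overCat U).obj := Over.mk (𝟙 U)
    obtain ⟨V, hV⟩ := H (y.obj g₁).obj (y.obj g₁).property
    have h₁ : (y.obj g₁).obj.base = U := Functor.congr_obj y.w g₁
    refine ⟨(eqToHom h₁.symm).left ⁻¹ᵁ V, fun g => ?_⟩
    let k : g ⟶ g₁ := Over.homMk g.hom (Category.comp_id _)
    have hg : (y.obj g).obj.base = g.left := Functor.congr_obj y.w g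
    have hk : (y.map k).hom.base = eqToHom hg ≫ g.hom ≫ eqToHom h₁.symm := Functor.congr_hom y.w k
    refine (hV _ (y.map k).hom (y.obj g).property).trans ?_
    rw [hk, Over.comp_left, Over.comp_left]
    constructor
    · rintro h _ ⟨t, rfl⟩
      obtain ⟨t, rfl⟩ := (eqToHom hg).left.surjective t
      exact h ⟨t, rfl⟩
    · rintro h _ ⟨t, rfl⟩
      exact h ⟨_, rfl⟩

/-- A good pointwise condition cuts out an open substack of the stack of curves. -/
theorem isOpenSubstack_of_good {Q : ∀ (U V : Scheme.{u}), (U ⟶ V) → ↥U → Prop} (hQ : Good Q)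
    (hC : AlgSt.IsAlgStack Scheme.fppfPrecoverage (CurvSt.Curves S 0)) (P : CurvSt.SpFamObj S 0 → Prop)
    (hP : ∀ A, CurvSt.IsCurveFam A → (P A ↔ AlgSp.LocP (pw Q) A.f)) :
    AlgSt.IsOpenSubstack (CurvSt.Curves S 0) (fun A => P A.obj) Scheme.fppfPrecoverage :=
  isOpenSubstack_of_exists_open hC P fun _ hA => by
    obtain ⟨V, hV⟩ := exists_open hQ hA
    exact ⟨V, fun A' φ hA' => (hP A' hA').trans (hV A' φ hA')⟩

end Groth.Agent.CurvLoci
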