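import Groth.Agent.CurvLoci.Engine
import Groth.Agent.CurvLoci.DimOneSp
import Groth.Agent.AlgSp.UnivClosed
import Groth.Agent.AlgSpEN.FibreDim
import Groth.Agent.AlgSpD.FibreDimBC
import Groth.Agent.AlgSpCov.LocP
import Groth.Agent.AlgSpB.Bootstrap

/-!
# A geometric fibre of a family of curves is a scheme
-/

set_option autoImplicit false
set_option backward.isDefEq.respectTransparency false
set_option backward.isDefEq.respectTransparency.types false
set_option linter.style.haveILetI false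

universe u

open CategoryTheory CategoryTheory.Limits AlgebraicGeometry

namespace Groth.Agent.CurvLoci

open Groth.Agent

section Descend

open Groth.Agent.AlgSp.Jshriek

variable {S S' : Scheme.{u}} (g : S ⟶ S')

/-- An algebraic space is separated if the space it gives over a further base is. -/
theorem isSeparatedSp_of_jlow {F : AlgSp.Sp S} (hF : AlgSp.IsAlgSpace F)
    (h : AlgSp.IsSeparatedSp ((jlow g).obj F)) : AlgSp.IsSeparatedSp F := by
  refine MorphismProperty.relative.of_exists fun T z => ?_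
  obtain ⟨V', i, x₀, sq⟩ := h.1 (prod.lift (tilde g (z ≫ prod.fst)) (tilde g (z ≫ prod.snd)))
  have hi : IsClosedImmersion i.left := h.2 _ _ _ sq
  let V : Over S := Over.mk (i.left ≫ T.hom)
  let i₀ : V ⟶ T := Over.homMk i.left rfl
  let c : (Over.map g).obj V ⟶ V' := Over.homMk (𝟙 _) (by
    change 𝟙 _ ≫ V'.hom = (i.left ≫ T.hom) ≫ g
    rw [Category.id_comp, Category.assoc]
    exact (Over.w i).symm)
  have hc : c ≫ i = (Over.map g).map i₀ := Over.OverMorphism.ext (Category.id_comp _)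
  have : Mono i₀ := Functor.mono_of_mono_map (Over.forget S) (inferInstanceAs (Mono i.left))
  have e1 : x₀ = (AlgSp.yon S').map i ≫ tilde g (z ≫ prod.fst) := by
    have := congrArg (· ≫ prod.fst) sq.w
    simpa using this
  have e2 : x₀ = (AlgSp.yon S').map i ≫ tilde g (z ≫ prod.snd) := by
    have := congrArg (· ≫ prod.snd) sq.w
    simpa using this
  have hV : (AlgSp.yon S).map i₀ ≫ z ≫ prod.fst = (AlgSp.yon S).map i₀ ≫ z ≫ prod.snd := by
    refine (existsUnique_tilde g hF _ (tilde_aF g _)).unique ?_ rfl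
    rw [tilde_map, tilde_map, ← hc, Functor.map_comp, Category.assoc, Category.assoc, ← e1, ← e2]
  refine ⟨V, (AlgSp.yon S).map i₀ ≫ z ≫ prod.fst, i₀, ?_, hi⟩
  refine AlgSpEN.isPullback_of_yon_mono (by
    apply prod.hom_ext
    · simp
    · simp [hV]) fun Z' y z' hz => ?_
  obtain ⟨w, rfl⟩ := (AlgSp.yon S).map_surjective z'
  have e3 : (AlgSp.yon S).map w ≫ z ≫ prod.fst = (AlgSp.yon S).map w ≫ z ≫ prod.snd := by
    have h3 := congrArg (· ≫ prod.fst) hz
    have h4 := congrArg (· ≫ prod.snd) hz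
    simp only [Category.assoc, prod.lift_fst, prod.lift_snd, Category.comp_id] at h3 h4
    rw [← h3, ← h4]
  have e4 : tilde g ((AlgSp.yon S).map w ≫ z ≫ prod.fst) ≫ Limits.diag _ =
      (AlgSp.yon S').map ((Over.map g).map w) ≫
        prod.lift (tilde g (z ≫ prod.fst)) (tilde g (z ≫ prod.snd)) := by
    apply prod.hom_ext
    · simp [tilde_map]
    · simp [e3, tilde_map]
  obtain ⟨l, hl⟩ := (AlgSp.yon S').map_surjective (sq.lift _ _ e4)
  have hl2 : l ≫ i = (Over.map g).map w :=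
    (AlgSp.yon S').map_injective (by rw [Functor.map_comp, hl, sq.lift_snd])
  have hl3 : l.left ≫ i.left = w.left := congrArg (fun k => CommaMorphism.left k) hl2
  refine ⟨(AlgSp.yon S).map (Over.homMk l.left ?_ : Z' ⟶ V), ?_⟩
  · change l.left ≫ i.left ≫ T.hom = Z'.hom
    rw [reassoc_of% hl3, Over.w]
  · rw [← Functor.map_comp]
    exact congrArg _ (Over.OverMorphism.ext hl3)

end Descend

theorem stalkDim_le_localDim (X : Scheme.{u}) (x : X) :
    ringKrullDim (X.presheaf.stalk x) ≤ FlatMor.localDim X x := by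
  refine le_iInf fun U => ?_
  rw [ringKrullDim_stalk_eq_coheight, AlgSpD.topologicalKrullDim_opens_eq]
  exact le_iSup (fun y : (U.1 : Set X) => ((Order.coheight (y : X) : ℕ∞) : WithBot ℕ∞)) ⟨x, U.2⟩

/-- A map between etale charts is etale. -/
theorem etale_of_chart {S : Scheme.{u}} {F : AlgSp.Sp S} {U V : Over S} {d : (AlgSp.yon S).obj U ⟶ F}
    {c : V ⟶ U} (hd : AlgSp.RepWith @Etale d) (hc : AlgSp.RepWith @Etale ((AlgSp.yon S).map c ≫ d)) :
    Etale c.left := by
  obtain ⟨R, fst, snd, sq⟩ := AlgSpB.exists_pullback_yon hd.1 ((AlgSp.yon S).map c ≫ d)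
  have : Etale snd.left := hd.2 _ _ _ sq
  have : Etale fst.left := hc.2 _ _ _ sq.flip
  obtain ⟨l, hl⟩ := (AlgSp.yon S).map_surjective (sq.lift ((AlgSp.yon S).map c) (𝟙 _) (Category.id_comp _).symm)
  have h1 : l ≫ fst = c := (AlgSp.yon S).map_injective (by rw [Functor.map_comp, hl, sq.lift_fst])
  have h2 : l ≫ snd = 𝟙 V :=
    (AlgSp.yon S).map_injective (by rw [Functor.map_comp, hl, sq.lift_snd, CategoryTheory.Functor.map_id])
  have : MorphismProperty.HasOfPostcompProperty @Etale @Etale := by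
    rw [MorphismProperty.hasOfPostcompProperty_iff_le_diagonal]
    intro X Y f hf
    have : Etale f := hf
    exact (inferInstanceAs (Etale (pullback.diagonal f)))
  have : Etale l.left := MorphismProperty.of_postcomp @Etale (W' := @Etale) l.left snd.left ‹_› (by
    rw [← Over.comp_left, h2]
    exact (inferInstance : Etale (𝟙 V.left)))
  rw [← h1, Over.comp_left]
  infer_instance

variable {S : Scheme.{u}} {n : ℕ}

/-- A geometric fibre, indeed any fibre over a field, of a family of curves is a scheme. -/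
theorem exists_scheme_fibre (A : CurvSt.SpFamObj S n) (hA : CurvSt.IsCurveFam A) (Ω : Type u) [Field Ω]
    (t : Spec (CommRingCat.of Ω) ⟶ A.base.left) :
    ∃ (X' : Scheme.{u}) (q : X' ⟶ Spec (CommRingCat.of Ω)) (i : (AlgSp.yon S).obj (A.ptOver (q ≫ t)) ⟶ A.X),
      IsPullback i ((AlgSp.yon S).map (A.fibHom t q)) A.f ((AlgSp.yon S).map (A.ptHom t)) := by
  obtain ⟨hX, hflat, hprop, hfp, hdim⟩ := hA
  let T₁ : Over S := A.ptOver t
  let P : AlgSp.Sp S := pullback A.f ((AlgSp.yon S).map (A.ptHom t))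
  let s : P ⟶ (AlgSp.yon S).obj T₁ := pullback.snd _ _
  let sqP : IsPullback (pullback.fst A.f _) s A.f ((AlgSp.yon S).map (A.ptHom t)) := IsPullback.of_hasPullback _ _
  have hP : AlgSp.IsAlgSpace P :=
    Groth.Agent.AlgSp.isAlgSpace_of_isPullback' (AlgSp.IsAlgSpace.yon_obj _) hX (AlgSp.IsAlgSpace.yon_obj _) sqP
  have hsP : AlgSp.IsProperMor s :=
    AlgSpD.isProperMor_baseChange hX (AlgSp.IsAlgSpace.yon_obj _) sqP hprop
  have : CompactSpace (AlgSp.Points P) :=
    Groth.Agent.AlgSp.compactSpace_of_isUnivClosedMor (t ≫ A.base.hom) hP s hsP.2.2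
  have : IsSeparated T₁.hom := inferInstanceAs (IsSeparated (t ≫ A.base.hom))
  have hPsep : AlgSp.IsSeparatedSp P := Groth.Agent.AlgSp.ChowLib.isSeparatedSp_of_mor s hsP.1
    ((AlgSp.repWith_diag_yon_iff _ _).2 (inferInstanceAs (IsClosedImmersion (pullback.diagonal T₁.hom))))
  obtain ⟨U₀, p, hp, hs⟩ := hX.atlas
  obtain ⟨h, hh⟩ := (AlgSp.yon S).map_surjective (p ≫ A.f)
  have hid : AlgSp.RepWith @Etale (𝟙 ((AlgSp.yon S).obj A.base)) := AlgSp.repWith_id _ _
  have w0 : p ≫ A.f = (AlgSp.yon S).map h ≫ 𝟙 _ := by rw [Category.comp_id]; exact hh.symm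
  haveI : LocallyOfFinitePresentation h.left := hfp.1 p (𝟙 _) h hp hid w0
  have hd0 : ∀ x : ↥U₀.left, FlatMor.fibreDimAt h.left x ≤ ((1 : ℕ) : WithBot ℕ∞) := fun x =>
    (AlgSpD.hasAtMor_iff_chart (Q := fun _ _ h u => FlatMor.fibreDimAt h u ≤ ((1 : ℕ) : WithBot ℕ∞))
      (fun _ _ _ _ p q h' h _ _ w u => by
        show FlatMor.fibreDimAt h' u ≤ _ ↔ FlatMor.fibreDimAt h (p u) ≤ _
        rw [AlgSpD.fibreDimAt_inv p q h' h w u])
      (X := ⟨A.X, hX⟩) (Y := ⟨(AlgSp.yon S).obj A.base, AlgSp.IsAlgSpace.yon_obj _⟩)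
      (ObjectProperty.homMk A.f) hp hid w0 x).1 (hdim _)
  have hW := IsPullback.of_hasPullback h (A.ptHom t)
  have hW' := hW.map (AlgSp.yon S)
  let d : (AlgSp.yon S).obj (pullback h (A.ptHom t)) ⟶ P :=
    sqP.lift ((AlgSp.yon S).map (pullback.fst h _) ≫ p) ((AlgSp.yon S).map (pullback.snd h _)) (by
      rw [Category.assoc, ← hh]; exact hW'.w)
  have sqd : IsPullback ((AlgSp.yon S).map (pullback.fst h (A.ptHom t))) d p (pullback.fst A.f _) :=
    IsPullback.of_bot (by rw [IsPullback.lift_snd, ← hh]; exact hW') (IsPullback.lift_fst _ _ _ _).symm sqP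
  have hde : AlgSp.RepWith @Etale d := AlgSpCov.repWith_bc sqd hp
  have hds : AlgSp.RepWith @Surjective d := AlgSpCov.repWith_bc sqd hs
  obtain ⟨V, c, hV, hce, hcs⟩ := AlgSpB.exists_affine_chart_of_compactSpace hde hds
  let k : V ⟶ T₁ := c ≫ pullback.snd h _
  have hWl : IsPullback (pullback.fst h (A.ptHom t)).left (pullback.snd h (A.ptHom t)).left h.left t :=
    hW.map (Over.forget S)
  have hcE : Etale c.left := etale_of_chart hde hce
  have : LocallyOfFinitePresentation (pullback.snd h (A.ptHom t)).left :=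
    MorphismProperty.of_isPullback hWl inferInstance
  have : IsLocallyNoetherian T₁.left := inferInstanceAs (IsLocallyNoetherian (Spec (CommRingCat.of Ω)))
  have : IsLocallyNoetherian (pullback h (A.ptHom t)).left :=
    LocallyOfFiniteType.isLocallyNoetherian (pullback.snd h (A.ptHom t)).left
  have hd1 : ∀ v : ↥V.left, ringKrullDim (V.left.presheaf.stalk v) ≤ 1 := fun v => by
    rw [← AlgSpD.ringKrullDim_stalk_eq c.left v]
    refine (stalkDim_le_localDim _ _).trans ?_
    rw [← AlgSpEN.fibreDimAt_field (K := Ω) (pullback.snd h (A.ptHom t)).left,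
      AlgSpD.fibreDimAt_of_isPullback h.left hWl]
    exact (hd0 _).trans_eq Nat.cast_one
  let g : T₁.left ⟶ S := t ≫ A.base.hom
  let cT : T₁ ⟶ Groth.Agent.AlgSp.Jshriek.Sg g := Over.homMk (𝟙 _) (Category.id_comp _)
  obtain ⟨F, e, hF, he⟩ := Groth.Agent.AlgSp.Jshriek.exists_preimage g hP (s ≫ (AlgSp.yon S).map cT)
  let V₀ : Over T₁.left := Over.mk k.left
  let eV : (Over.map g).obj V₀ ≅ V := Over.isoMk (Iso.refl _) (by
    change 𝟙 _ ≫ V.hom = k.left ≫ g
    rw [Category.id_comp]; exact (Over.w k).symm)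
  let y : (AlgSp.yon S).obj ((Over.map g).obj V₀) ⟶ (Groth.Agent.AlgSp.Jshriek.jlow g).obj F :=
    (AlgSp.yon S).map eV.hom ≫ ((AlgSp.yon S).map c ≫ d) ≫ e.inv
  obtain ⟨a, ha, -⟩ := Groth.Agent.AlgSp.Jshriek.existsUnique_tilde g hF y (by
    simp only [y, d, Category.assoc, ← he, Iso.inv_hom_id_assoc]
    rw [IsPullback.lift_snd_assoc, ← Functor.map_comp, ← Functor.map_comp, ← Functor.map_comp]
    congr 1)
  have hy : ∀ (Q : MorphismProperty Scheme.{u}) [Q.IsStableUnderBaseChange]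
      [Q.IsLocalAtTarget Scheme.fppfPrecoverage], AlgSp.RepWith Q ((AlgSp.yon S).map c ≫ d) →
      AlgSp.RepWith Q a := by
    intro Q _ _ hQ
    rw [← Groth.Agent.AlgSp.Jshriek.repWith_jlow_map_iff g hF]
    have := Groth.Agent.AlgSp.Jshriek.isIso_tilde_id g V₀
    rw [← MorphismProperty.cancel_left_of_respectsIso (AlgSp.RepWith (S := S) Q)
      (Groth.Agent.AlgSp.Jshriek.tilde g (𝟙 _)), ← Groth.Agent.AlgSp.Jshriek.tilde_eq, ha]
    exact (MorphismProperty.cancel_left_of_respectsIso (AlgSp.RepWith (S := S) Q) _ _).2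
      ((MorphismProperty.cancel_right_of_respectsIso (AlgSp.RepWith (S := S) Q) _ _).2 hQ)
  have hFsep : AlgSp.IsSeparatedSp F := by
    refine isSeparatedSp_of_jlow g hF (Groth.Agent.AlgSp.ChowLib.isSeparatedSp_of_mor e.hom ?_ hPsep)
    exact AlgSpB.isSeparatedMor_of_mono e.hom
  have : IsAffine T₁.left := inferInstanceAs (IsAffine (Spec (CommRingCat.of Ω)))
  have : CompactSpace ↥V₀.left := inferInstanceAs (CompactSpace ↥V.left)
  have : IsLocallyNoetherian V₀.left := LocallyOfFiniteType.isLocallyNoetherian c.left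
  obtain ⟨W, ⟨eW⟩⟩ := AlgSpB.exists_iso_of_isRepresentable
    (DimOneSp.isRepresentable_of_dim_le_one ⟨F, hF⟩ hFsep (hy @Etale hce) (hy @Surjective hcs) hd1)
  have := Groth.Agent.AlgSp.Jshriek.isIso_tilde_id g W
  let E₁ : (AlgSp.yon S).obj ((Over.map g).obj W) ≅ P :=
    asIso (Groth.Agent.AlgSp.Jshriek.tilde g (𝟙 ((AlgSp.yon T₁.left).obj W))) ≪≫
      (Groth.Agent.AlgSp.Jshriek.jlow g).mapIso eW ≪≫ e
  let cW : A.ptOver (W.hom ≫ t) ≅ (Over.map g).obj W := Over.isoMk (Iso.refl _) (by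
    change 𝟙 _ ≫ W.hom ≫ g = (W.hom ≫ t) ≫ A.base.hom
    simp [g])
  let E : (AlgSp.yon S).obj (A.ptOver (W.hom ≫ t)) ≅ P := (AlgSp.yon S).mapIso cW ≪≫ E₁
  refine ⟨W.left, W.hom, E.hom ≫ pullback.fst _ _,
    sqP.of_iso E.symm (Iso.refl _) (Iso.refl _) (Iso.refl _) (by simp) ?_ (by simp) (by simp)⟩
  rw [Iso.refl_hom, Category.comp_id]
  rw [← cancel_epi E.hom]
  obtain ⟨m, hm⟩ := (AlgSp.yon S).map_surjective (E.hom ≫ s)
  have hml : m.left = W.hom := by
    have h1 : (AlgSp.yon S).map (m ≫ cT) = (AlgSp.yon S).map (cW.hom ≫ Groth.Agent.AlgSp.Jshriek.str g W) := by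
      rw [Functor.map_comp, hm, Category.assoc, Functor.map_comp, ← Groth.Agent.AlgSp.Jshriek.tilde_aF g (F := F) eW.hom]
      simp only [E, E₁, Iso.trans_hom, Functor.mapIso_hom, asIso_hom, Category.assoc]
      rw [← he, Groth.Agent.AlgSp.Jshriek.tilde_eq g eW.hom, Category.assoc]
    have h2 := congrArg (fun k => CommaMorphism.left k) ((AlgSp.yon S).map_injective h1)
    simpa [cT, cW, Groth.Agent.AlgSp.Jshriek.str] using h2
  rw [← hm, Iso.symm_hom, Iso.hom_inv_id_assoc]
  exact congrArg _ (Over.OverMorphism.ext hml)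

end Groth.Agent.CurvLoci
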