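import Groth.Agent.CurvLoci.Engine
import Groth.Agent.EtStruct.BaseChangeDescentScheme
import Groth.Agent.EtStruct.QFinPts
import Groth.Agent.FlatOpen.SmoothAt
import Groth.Agent.AlgSpCov.Instances
import Mathlib.AlgebraicGeometry.Fiber

/-!
# Smoothness at a point is a good condition
-/

set_option autoImplicit false
set_option backward.isDefEq.respectTransparency false
set_option backward.isDefEq.respectTransparency.types false
set_option linter.style.haveILetI false

universe u

open CategoryTheory CategoryTheory.Limits AlgebraicGeometry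

namespace Groth.Agent.CurvLoci

open Groth.Agent

variable {U V W : Scheme.{u}}

/-- Smooth in a neighbourhood of the point. -/
abbrev SmAt : ∀ (U V : Scheme.{u}), (U ⟶ V) → ↥U → Prop :=
  fun U _ h x => ∃ O : U.Opens, x ∈ O ∧ Smooth (O.ι ≫ h)

theorem smAt_postcomp (h : U ⟶ V) (e : V ⟶ W) [Etale e] (x : U) :
    SmAt U W (h ≫ e) x ↔ SmAt U V h x := by
  have : MorphismProperty.HasOfPostcompProperty @Smooth @Etale := by
    rw [MorphismProperty.hasOfPostcompProperty_iff_le_diagonal]
    intro X Y f hf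
    have : Etale f := hf
    exact (inferInstanceAs (Smooth (pullback.diagonal f)))
  refine exists_congr fun O => and_congr_right fun _ => ⟨fun hs => ?_, fun hs => ?_⟩
  · exact MorphismProperty.of_postcomp @Smooth (W' := @Etale) _ e ‹_› (by rwa [Category.assoc])
  · haveI := hs
    rw [← Category.assoc]
    infer_instance

theorem smAt_precomp (p : U ⟶ V) [Etale p] (h : V ⟶ W) (x : U) :
    SmAt U W (p ≫ h) x ↔ SmAt V W h (p x) := by
  constructor
  · rintro ⟨O, hx, hs⟩
    let O' : V.Opens := ⟨p '' (O : Set U), p.isOpenMap _ O.2⟩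
    have hle : O ≤ p ⁻¹ᵁ O' := fun z hz => ⟨z, hz, rfl⟩
    let g := p.resLE O' O hle
    haveI : Surjective g := by
      refine ⟨fun ⟨y, hy⟩ => ?_⟩
      obtain ⟨z, hz, rfl⟩ := hy
      refine ⟨⟨z, hz⟩, O'.ι.isOpenEmbedding.injective ?_⟩
      rw [← Scheme.Hom.comp_apply, Scheme.Hom.resLE_comp_ι, Scheme.Hom.comp_apply]
      rfl
    refine ⟨O', ⟨x, hx, rfl⟩, AlgSpCov.smooth_of_comp_smooth g _ ?_⟩
    rw [Scheme.Hom.resLE_comp_ι_assoc]
    exact hs
  · rintro ⟨O', hx, hs⟩
    refine ⟨p ⁻¹ᵁ O', hx, ?_⟩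
    rw [← Category.assoc, ← morphismRestrict_ι, Category.assoc]
    infer_instance

/-- Smoothness on every point of a base change is smoothness on the image. -/
theorem smAt_of_isPullback {U' V' : Scheme.{u}} {h : U ⟶ V} {k : V' ⟶ V} {fst : U' ⟶ U} {h' : U' ⟶ V'}
    [Flat h] [LocallyOfFinitePresentation h] (sq : IsPullback fst h' h k) (u' : U') :
    SmAt U' V' h' u' ↔ SmAt U V h (fst u') := by
  refine ⟨fun H => ?_, fun ⟨O, hO, hs⟩ => ⟨fst ⁻¹ᵁ O, hO, MorphismProperty.of_isPullback
    ((isPullback_morphismRestrict fst O).flip.paste_horiz sq.flip).flip hs⟩⟩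
  haveI : LocallyOfFinitePresentation h' := MorphismProperty.of_isPullback sq ‹LocallyOfFinitePresentation h›
  rw [show SmAt U' V' h' u' ↔ _ from EtStruct.smooth_nhd_iff h' u'] at H
  show ∃ O : U.Opens, fst u' ∈ O ∧ Smooth (O.ι ≫ h)
  rw [EtStruct.smooth_nhd_iff h]
  rw [← h'.fiberι_asFiber u'] at H
  have H₁ := ((FlatOpen.SmoothAt.formallySmooth_stalkMap_iff_fibre h' (h' u') (h'.asFiber u')).1 H).2
  let z := EtStruct.fiberMap h sq (h' u') (h'.asFiber u')
  have hz : h.fiberι (k (h' u')) z = fst u' := EtStruct.fiberMap_asFiber h sq u'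
  rw [← hz]
  refine (FlatOpen.SmoothAt.formallySmooth_stalkMap_iff_fibre h (k (h' u')) z).2 ⟨Flat.stalkMap h _, ?_⟩
  haveI : Flat (Spec.map (k.residueFieldMap (h' u'))) := by
    rw [HasRingHomProperty.Spec_iff (P := @Flat)]
    letI := (k.residueFieldMap (h' u')).hom.toAlgebra
    exact inferInstanceAs (Module.Flat (V.residueField (k (h' u'))) (V'.residueField (h' u')))
  exact (EtStruct.stalkMap_descent_of_flat (isPullback_fiberToSpecResidueField_of_isPullback sq (h' u'))
    (h'.asFiber u')).1 H₁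

theorem good_smooth : Good.{u} SmAt where
  inv := fun _ _ _ _ p q h' h _ _ _ _ _ _ w u => by
    rw [← smAt_postcomp h' q u, ← smAt_precomp p h u, w]
  isOpen := fun _ _ _ _ _ => isOpen_iff_forall_mem_open.2 fun x ⟨O, hx, hs⟩ =>
    ⟨(O : Set _), fun _ hz => ⟨O, hz, hs⟩, O.2, hx⟩
  bc := fun _ _ _ _ _ _ _ _ _ _ sq u' => smAt_of_isPullback sq u'

theorem smAt_all_iff (h : U ⟶ V) : (∀ x, SmAt U V h x) ↔ Smooth h := by
  refine ⟨fun H => ?_, fun hs x => ⟨⊤, trivial, inferInstance⟩⟩
  choose O hO hs using H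
  have hcov : iSup O = ⊤ := top_unique fun x _ => TopologicalSpace.Opens.mem_iSup.2 ⟨x, hO x⟩
  exact (IsZariskiLocalAtSource.iff_of_iSup_eq_top (P := @Smooth) _ hcov).2 hs

end Groth.Agent.CurvLoci
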