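import Groth.Agent.CurvLoci.Point
import Groth.Agent.CurvLoci.FibreScheme
import Groth.Agent.CurvLoci.SmoothLocus
import Groth.Agent.AlgSpD.LqfLocus
import Groth.Agent.AlgSpD.FibreDimBC
import Groth.Agent.AlgSpD.RelDim
import Groth.Agent.StFieldLib.Basic
import Groth.Agent.AlgSpB.OverField

/-!
# Families whose fibres are smooth outside finitely many points
-/

set_option autoImplicit false
set_option backward.isDefEq.respectTransparency false
set_option backward.isDefEq.respectTransparency.types false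
set_option linter.style.haveILetI false

universe u

open CategoryTheory CategoryTheory.Limits AlgebraicGeometry

namespace Groth.Agent.CurvLoci

open Groth.Agent

/-- Every point of non-smoothness is isolated among those of its fibre, near the given point. -/
def NsIsolated : ∀ (U V : Scheme.{u}), (U ⟶ V) → ↥U → Prop := fun U V h u =>
  SmAt U V h u ∨ ∃ O : Set ↥U, IsOpen O ∧ u ∈ O ∧ ∀ w ∈ O, h w = h u → ¬ SmAt U V h w → w = u

theorem fibreDimAt_eq_zero_iff_isolated {Z V : Scheme.{u}} (g : Z ⟶ V) [LocallyOfFiniteType g] (z : Z) :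
    FlatMor.fibreDimAt g z = 0 ↔ ∃ O : Set ↥Z, IsOpen O ∧ z ∈ O ∧ ∀ w ∈ O, g w = g z → w = z := by
  rw [← AlgSpD.quasiFiniteAt_iff_fibreDimAt_eq_zero, Scheme.Hom.quasiFiniteAt_iff_isOpen_singleton_asFiber,
    (g.fiberι (g z)).isEmbedding.isInducing.isOpen_iff]
  constructor
  · rintro ⟨O, hO, e⟩
    refine ⟨O, hO, ?_, fun w hw hgw => ?_⟩
    · have : g.asFiber z ∈ g.fiberι (g z) ⁻¹' O := e.ge rfl
      rwa [Set.mem_preimage, g.fiberι_asFiber] at this
    · obtain ⟨w', rfl⟩ : w ∈ Set.range (g.fiberι (g z)) := by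
        rw [g.range_fiberι]; exact hgw
      have : w' ∈ ({g.asFiber z} : Set _) := e.le hw
      rw [Set.mem_singleton_iff.1 this, g.fiberι_asFiber]
  · rintro ⟨O, hO, hz, H⟩
    refine ⟨O, hO, Set.eq_singleton_iff_unique_mem.2 ⟨?_, fun w hw => ?_⟩⟩
    · rw [Set.mem_preimage, g.fiberι_asFiber]; exact hz
    · apply (g.fiberι (g z)).isEmbedding.injective
      rw [g.fiberι_asFiber]
      refine H _ hw ?_
      have : g.fiberι (g z) w ∈ Set.range (g.fiberι (g z)) := ⟨w, rfl⟩
      rw [g.range_fiberι] at this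
      exact this

/-- Isolation read on any closed subscheme supported on the non-smooth points. -/
theorem nsIsolated_iff {U V Z : Scheme.{u}} (h : U ⟶ V) [LocallyOfFiniteType h] (ι : Z ⟶ U)
    [IsClosedImmersion ι] (hι : Set.range ι = {u | ¬ SmAt U V h u}) (z : Z) :
    NsIsolated U V h (ι z) ↔ FlatMor.fibreDimAt (ι ≫ h) z = 0 := by
  rw [fibreDimAt_eq_zero_iff_isolated]
  have hz : ¬ SmAt U V h (ι z) := hι.le ⟨z, rfl⟩
  constructor
  · rintro (hc | ⟨O, hO, hu, H⟩)
    · exact absurd hc hz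
    refine ⟨ι ⁻¹' O, hO.preimage ι.continuous, hu, fun w hw hgw => ι.isEmbedding.injective ?_⟩
    exact H _ hw (by simpa using hgw) (hι.le ⟨w, rfl⟩)
  · rintro ⟨O, hO, hu, H⟩
    obtain ⟨O', hO', rfl⟩ := ι.isEmbedding.isInducing.isOpen_iff.1 hO
    refine Or.inr ⟨O', hO', hu, fun w hw hgw hns => ?_⟩
    obtain ⟨w', rfl⟩ := hι.ge hns
    exact congrArg ι (H w' hw (by simpa using hgw))

theorem isClosed_nonsmooth {U V : Scheme.{u}} (h : U ⟶ V) [Flat h] [LocallyOfFinitePresentation h] :
    IsClosed {u : ↥U | ¬ SmAt U V h u} :=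
  (good_smooth.{u}.isOpen h).isClosed_compl

/-- The non-smooth points as a closed subscheme. -/
theorem exists_nonsmooth_subscheme {U V : Scheme.{u}} (h : U ⟶ V) [Flat h] [LocallyOfFinitePresentation h] :
    ∃ (Z : Scheme.{u}) (ι : Z ⟶ U), IsClosedImmersion ι ∧ Set.range ι = {u | ¬ SmAt U V h u} := by
  let I := Scheme.IdealSheafData.vanishingIdeal (⟨_, isClosed_nonsmooth h⟩ : TopologicalSpace.Closeds ↥U)
  refine ⟨I.subscheme, I.subschemeι, inferInstance, ?_⟩
  rw [Scheme.IdealSheafData.range_subschemeι, Scheme.IdealSheafData.coe_support_vanishingIdeal]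
  rfl

theorem good_nsIsolated : Good.{u} NsIsolated where
  inv := fun U' U V' V p q h' h _ _ _ _ _ _ w u => by
    have hs : SmAt U' V' h' u ↔ SmAt U V h (p u) := good_smooth.inv p q h' h w u
    by_cases hu : SmAt U V h (p u)
    · exact iff_of_true (Or.inl (hs.2 hu)) (Or.inl hu)
    obtain ⟨Z, ι, _, hι⟩ := exists_nonsmooth_subscheme h
    obtain ⟨z, hz⟩ := hι.ge hu
    obtain ⟨z', hz1, hz2⟩ := Scheme.Pullback.exists_preimage_pullback (f := p) (g := ι) u z hz.symm
    have hι' : Set.range (pullback.fst p ι) = {x | ¬ SmAt U' V' h' x} := by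
      ext x
      rw [Scheme.Pullback.range_fst, Set.mem_preimage, hι]
      exact not_congr (good_smooth.inv p q h' h w x).symm
    haveI : Etale (pullback.snd p ι) := MorphismProperty.pullback_snd _ _ ‹Etale p›
    have ww : (pullback.fst p ι ≫ h') ≫ q = pullback.snd p ι ≫ ι ≫ h := by
      rw [Category.assoc, w, pullback.condition_assoc]
    rw [← hz1, nsIsolated_iff h' (pullback.fst p ι) hι', hz1, ← hz, nsIsolated_iff h ι hι,
      AlgSpD.fibreDimAt_inv (pullback.snd p ι) q (pullback.fst p ι ≫ h') (ι ≫ h) ww z', hz2]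
  isOpen := fun U V h _ _ => by
    obtain ⟨Z, ι, _, hι⟩ := exists_nonsmooth_subscheme h
    have : {u | NsIsolated U V h u} = (ι '' {z | FlatMor.fibreDimAt (ι ≫ h) z = 0}ᶜ)ᶜ := by
      ext u
      constructor
      · rintro hu ⟨z, hz, rfl⟩
        exact hz ((nsIsolated_iff h ι hι z).1 hu)
      · intro hu
        by_cases hs : SmAt U V h u
        · exact Or.inl hs
        obtain ⟨z, rfl⟩ := hι.ge hs
        exact (nsIsolated_iff h ι hι z).2 (not_not.1 fun hn => hu ⟨z, hn, rfl⟩)
    rw [this, isOpen_compl_iff]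
    refine ι.isClosedMap _ ?_
    rw [isClosed_compl_iff]
    have : {z | FlatMor.fibreDimAt (ι ≫ h) z = 0} = ((ι ≫ h).quasiFiniteLocus : Set ↥Z) := by
      ext z
      exact ((AlgSpD.quasiFiniteAt_iff_fibreDimAt_eq_zero _ z).symm).trans Scheme.Hom.mem_quasiFiniteLocus.symm
    rw [this]
    exact (ι ≫ h).quasiFiniteLocus.2
  bc := fun U V U' V' h k fst h' _ _ sq u' => by
    haveI : LocallyOfFinitePresentation h' :=
      MorphismProperty.of_isPullback sq ‹LocallyOfFinitePresentation h›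
    have hs : SmAt U' V' h' u' ↔ SmAt U V h (fst u') := good_smooth.bc h k fst h' sq u'
    by_cases hu : SmAt U V h (fst u')
    · exact iff_of_true (Or.inl (hs.2 hu)) (Or.inl hu)
    obtain ⟨Z, ι, _, hι⟩ := exists_nonsmooth_subscheme h
    obtain ⟨z, hz⟩ := hι.ge hu
    obtain ⟨z', hz1, hz2⟩ := Scheme.Pullback.exists_preimage_pullback (f := fst) (g := ι) u' z hz.symm
    have hι' : Set.range (pullback.fst fst ι) = {x | ¬ SmAt U' V' h' x} := by
      ext x
      rw [Scheme.Pullback.range_fst, Set.mem_preimage, hι]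
      exact not_congr (good_smooth.bc h k fst h' sq x).symm
    rw [← hz1, nsIsolated_iff h' (pullback.fst fst ι) hι', hz1, ← hz, nsIsolated_iff h ι hι,
      AlgSpD.fibreDimAt_of_isPullback (ι ≫ h)
        ((IsPullback.of_hasPullback fst ι).flip.paste_vert sq) z', hz2]

variable {S : Scheme.{u}}

/-- Finitely many non-smooth points in every geometric fibre. -/
abbrev FinNonsmooth (A : CurvSt.SpFamObj S 0) : Prop :=
  CurvSt.GeomFib (fun _ _ _ X' q _ =>
    Set.Finite {x : ↥X' | ¬ ∃ U : X'.Opens, x ∈ U ∧ Smooth (U.ι ≫ q)}) A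

theorem finNonsmooth_iff (A : CurvSt.SpFamObj S 0) (hA : CurvSt.IsCurveFam A) :
    FinNonsmooth A ↔ AlgSp.LocP (pw NsIsolated) A.f := by
  have hA₀ := hA
  obtain ⟨hX, hflat, hprop, hfp, -⟩ := hA
  obtain ⟨U₀, p, hp, hs⟩ := hX.atlas
  obtain ⟨h, hh⟩ := (AlgSp.yon S).map_surjective (p ≫ A.f)
  have hid : AlgSp.RepWith @Etale (𝟙 ((AlgSp.yon S).obj A.base)) := AlgSp.repWith_id _ _
  have w0 : p ≫ A.f = (AlgSp.yon S).map h ≫ 𝟙 _ := by rw [Category.comp_id]; exact hh.symm
  haveI : Flat h.left := hflat p (𝟙 _) h hp hid w0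
  haveI : LocallyOfFinitePresentation h.left := hfp.1 p (𝟙 _) h hp hid w0
  rw [locP_pw_iff good_nsIsolated A.f hflat hfp.1 hp hs hh.symm]
  have fib : ∀ (Ω : Type u) [Field Ω] (t : Spec (CommRingCat.of Ω) ⟶ A.base.left) (X' : Scheme.{u})
      (q : X' ⟶ Spec (CommRingCat.of Ω)) (i : (AlgSp.yon S).obj (A.ptOver (q ≫ t)) ⟶ A.X),
      IsPullback i ((AlgSp.yon S).map (A.fibHom t q)) A.f ((AlgSp.yon S).map (A.ptHom t)) →
      LocallyOfFinitePresentation q ∧ CompactSpace ↥X' ∧
      (∀ x', ∃ u, NsIsolated X' _ q x' ↔ NsIsolated U₀.left A.base.left h.left u) ∧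
      ∀ u : ↥U₀.left, h.left u = t (IsLocalRing.closedPoint Ω) →
        ∃ x', NsIsolated X' _ q x' ↔ NsIsolated U₀.left A.base.left h.left u := by
    intro Ω _ t X' q i hP
    haveI hq : LocallyOfFinitePresentation q :=
      (AlgSpCov.locP_baseChange AlgSpCov.etaleLocal_locallyOfFinitePresentation hX
        (AlgSp.IsAlgSpace.yon_obj _) hP hfp.1) (𝟙 _) (𝟙 _) (A.fibHom t q) (AlgSp.repWith_id _ _)
        (AlgSp.repWith_id _ _) (by simp)
    haveI : Flat q := AlgSpB.flat_to_field q
    haveI := Groth.Agent.AlgSp.compactSpace_of_isUnivClosedMor (t ≫ A.base.hom) (AlgSp.IsAlgSpace.yon_obj _)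
      ((AlgSp.yon S).map (A.fibHom t q)) (AlgSpD.isProperMor_baseChange hX (AlgSp.IsAlgSpace.yon_obj _) hP hprop).2.2
    haveI : CompactSpace ↥X' := (AlgSp.Points.schemeHomeo (A.ptOver (q ≫ t))).symm.compactSpace
    have hW := IsPullback.of_hasPullback h (A.ptHom t)
    have hW' := hW.map (AlgSp.yon S)
    have hWl : IsPullback (pullback.fst h (A.ptHom t)).left (pullback.snd h (A.ptHom t)).left h.left t :=
      hW.map (Over.forget S)
    let d : (AlgSp.yon S).obj (pullback h (A.ptHom t)) ⟶ (AlgSp.yon S).obj (A.ptOver (q ≫ t)) :=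
      hP.lift ((AlgSp.yon S).map (pullback.fst h _) ≫ p) ((AlgSp.yon S).map (pullback.snd h _)) (by
        rw [Category.assoc, ← hh]; exact hW'.w)
    have sqd : IsPullback ((AlgSp.yon S).map (pullback.fst h (A.ptHom t))) d p i :=
      IsPullback.of_bot (by rw [IsPullback.lift_snd, ← hh]; exact hW') (IsPullback.lift_fst _ _ _ _).symm hP
    have hde : AlgSp.RepWith @Etale d := AlgSpCov.repWith_bc sqd hp
    have hds : AlgSp.RepWith @Surjective d := AlgSpCov.repWith_bc sqd hs
    obtain ⟨r, hr⟩ := (AlgSp.yon S).map_surjective d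
    haveI : Etale r.left := (AlgSp.repWith_yon_map_iff _ r).1 (hr ▸ hde)
    haveI : Surjective r.left := (AlgSp.repWith_yon_map_iff _ r).1 (hr ▸ hds)
    have hrw : r.left ≫ q = (pullback.snd h (A.ptHom t)).left := by
      have e : r ≫ A.fibHom t q = pullback.snd h (A.ptHom t) := (AlgSp.yon S).map_injective (by
        rw [Functor.map_comp, hr]; exact hP.lift_snd _ _ _)
      exact congrArg (fun k => CommaMorphism.left k) e
    haveI : LocallyOfFinitePresentation (pullback.snd h (A.ptHom t)).left :=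
      MorphismProperty.of_isPullback hWl inferInstance
    haveI : Flat (pullback.snd h (A.ptHom t)).left := MorphismProperty.of_isPullback hWl inferInstance
    have key : ∀ w, NsIsolated X' _ q (r.left w) ↔
        NsIsolated U₀.left A.base.left h.left ((pullback.fst h (A.ptHom t)).left w) := fun w => by
      rw [← good_nsIsolated.bc h.left t _ _ hWl w]
      exact (good_nsIsolated.inv r.left (𝟙 _) (pullback.snd h (A.ptHom t)).left q
        (by rw [Category.comp_id]; exact hrw.symm) w).symm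
    refine ⟨hq, inferInstance, fun x' => ?_, fun u hu => ?_⟩
    · obtain ⟨w, rfl⟩ := r.left.surjective x'
      exact ⟨_, key w⟩
    · obtain ⟨w, hw, -⟩ := Scheme.exists_preimage_of_isPullback hWl u (IsLocalRing.closedPoint Ω) hu
      exact ⟨r.left w, hw ▸ key w⟩
  constructor
  · intro H u
    let Ω : Type u := AlgebraicClosure (A.base.left.residueField (h.left u))
    let t : Spec (CommRingCat.of Ω) ⟶ A.base.left :=
      Spec.map (CommRingCat.ofHom (algebraMap (A.base.left.residueField (h.left u)) Ω)) ≫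
        A.base.left.fromSpecResidueField (h.left u)
    obtain ⟨X', q, i, hP⟩ := exists_scheme_fibre A hA₀ Ω t
    have hfin := H Ω t X' q i hP
    obtain ⟨hq, -, -, hsome⟩ := fib Ω t X' q i hP
    obtain ⟨x', hx'⟩ := hsome u (Scheme.fromSpecResidueField_apply _ _).symm
    rw [← hx']
    haveI := hq
    haveI : Flat q := AlgSpB.flat_to_field q
    by_cases hsm : SmAt X' _ q x'
    · exact Or.inl hsm
    obtain ⟨Z, ι, _, hι⟩ := exists_nonsmooth_subscheme q
    obtain ⟨z, rfl⟩ := hι.ge hsm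
    haveI : Finite ↥Z := by
      have : (Set.range ι).Finite := hι ▸ hfin
      have := this.to_subtype
      exact Finite.of_injective (fun z => (⟨ι z, z, rfl⟩ : Set.range ι))
        fun a b e => ι.isEmbedding.injective (congrArg Subtype.val e)
    haveI : JacobsonSpace ↥Z := LocallyOfFiniteType.jacobsonSpace (ι ≫ q)
    refine (nsIsolated_iff q ι hι z).2 ((fibreDimAt_eq_zero_iff_isolated _ z).2
      ⟨{z}, isOpen_discrete _, rfl, fun w hw _ => hw⟩)
  · intro H Ω _ _ t X' q i hP
    obtain ⟨hq, hc, hall, -⟩ := fib Ω t X' q i hP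
    haveI := hq
    haveI := hc
    haveI : Flat q := AlgSpB.flat_to_field q
    have hcl := isClosed_nonsmooth q
    refine hcl.isCompact.finite ?_
    rw [isDiscrete_iff_forall_mem_exists_isOpen]
    intro x hx
    obtain ⟨u, hu⟩ := hall x
    rcases hu.2 (H u) with hs | ⟨O, hO, hxO, hOu⟩
    · exact absurd hs hx
    refine ⟨O, hO, Set.eq_singleton_iff_unique_mem.2 ⟨⟨hxO, hx⟩, fun w hw => hOu w hw.1 ?_ hw.2⟩⟩
    exact @Subsingleton.elim _ (inferInstanceAs (Subsingleton (PrimeSpectrum Ω))) _ _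

/-- The families with finitely many non-smooth points in each fibre form an open substack. -/
theorem isOpenSubstack_finNonsmooth (hC : AlgSt.IsAlgStack Scheme.fppfPrecoverage (CurvSt.Curves S 0)) :
    AlgSt.IsOpenSubstack (CurvSt.Curves S 0) (fun A => FinNonsmooth A.obj) Scheme.fppfPrecoverage :=
  isOpenSubstack_of_good good_nsIsolated hC FinNonsmooth finNonsmooth_iff

/-- A field point gives an object. -/
theorem nonempty_fiber_finNonsmooth {Ω : Type u} [Field Ω] (t : Spec (CommRingCat.of Ω) ⟶ S) :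
    Nonempty ((AlgSt.fullSub (CurvSt.Curves S 0) (fun A => FinNonsmooth A.obj)).p.Fiber (Over.mk t)) := by
  refine nonempty_fiber t (𝟙 _) localDim_spec_le (fun A => FinNonsmooth A.obj) ?_
  refine (StFieldLib.geomFib_iff S t _ fun _ _ _ X' q =>
    Set.Finite {x : ↥X' | ¬ ∃ U : X'.Opens, x ∈ U ∧ Smooth (U.ι ≫ q)}).2 ?_
  intro K _ _ s X' q i₀ sq
  haveI := sq.isIso_snd_of_isIso
  haveI : Subsingleton ↥X' := q.isOpenEmbedding.injective.subsingleton (β := PrimeSpectrum K)
  exact Set.toFinite _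

end Groth.Agent.CurvLoci
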