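import Groth.Agent.CurvLoci.FibreScheme
import Groth.Agent.CurvLoci.Point
import Groth.Agent.FlatMor.GeomDescent
import Groth.Agent.AlgSpB.RedInduced
import Groth.Agent.AlgSpB.OverField
import Groth.Agent.S10682

/-!
# Geometrically reduced fibres form an open locus in the stack of curves
-/

set_option autoImplicit false
set_option backward.isDefEq.respectTransparency false
set_option backward.isDefEq.respectTransparency.types false
set_option linter.style.haveILetI false

universe u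

open CategoryTheory CategoryTheory.Limits AlgebraicGeometry

namespace Groth.Agent.CurvLoci

open Groth.Agent

variable {S : Scheme.{u}}

theorem toHom_up {T : Over S} {K : Type u} [Field K] {str : Spec (CommRingCat.of K) ⟶ S}
    (m : Over.mk str ⟶ T) :
    (⟨K, str, ULift.up m⟩ : AlgSp.FieldPt ((AlgSp.yon S).obj T)).toHom = (AlgSp.yon S).map m :=
  (Equiv.symm_apply_eq _).2 rfl

/-- The points over which all the base changes of the fibre to fields are reduced. -/
abbrev redLocus (A : CurvSt.SpFamObj S 0) : Set (AlgSp.Points ((AlgSp.yon S).obj A.base)) :=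
  {y | ∀ (k : AlgSp.FieldPt ((AlgSp.yon S).obj A.base)), AlgSp.Points.mk k = y →
        ∀ (k' : Type u) [Field k'] (φ : k.K →+* k') (Xk' : AlgSp.Sp S) (a : Xk' ⟶ A.X)
          (b : Xk' ⟶ (AlgSp.yon S).obj (Over.mk (Spec.map (CommRingCat.ofHom φ) ≫ k.str))),
          IsPullback a b A.f ((AlgSp.yon S).map (Over.homMk (Spec.map (CommRingCat.ofHom φ)) rfl :
            Over.mk (Spec.map (CommRingCat.ofHom φ) ≫ k.str) ⟶ k.pt) ≫ k.toHom) →
          AlgSp.EtaleLocally (fun U => IsReduced U) Xk'}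

/-- The condition on geometric fibres. -/
abbrev GeomRed (A : CurvSt.SpFamObj S 0) : Prop :=
  CurvSt.GeomFib (fun _ _ _ X' _ _ => IsReduced X') A

theorem geomRed_iff {A A' : CurvSt.SpFamObj S 0} (hA : CurvSt.IsCurveFam A) (hA' : CurvSt.IsCurveFam A')
    (φ : A' ⟶ A) : GeomRed A' ↔
      Set.range φ.base.left ⊆ AlgSp.Points.schemeHomeo A.base ⁻¹' redLocus A := by
  constructor
  · rintro H _ ⟨t₁, rfl⟩ k hk k' _ ψ Xk' a b sq
    obtain ⟨K, str, ⟨m⟩⟩ := k
    change Over.mk str ⟶ A.base at m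
    have hm : m.left (IsLocalRing.closedPoint K) = φ.base.left t₁ := by
      apply (AlgSp.Points.schemeHomeo A.base).injective
      exact (AlgSp.Points.ofScheme_apply_eq_mk A.base m.left (Over.w m)).trans hk
    let c : Spec (CommRingCat.of k') ⟶ A.base.left := Spec.map (CommRingCat.ofHom ψ) ≫ m.left
    have hc : c (IsLocalRing.closedPoint k') = φ.base.left t₁ := by
      rw [← hm]
      change m.left (Spec.map (CommRingCat.ofHom ψ) _) = _
      congr 1
      exact @Subsingleton.elim _ (inferInstanceAs (Subsingleton (PrimeSpectrum K))) _ _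
    obtain ⟨z, -, -⟩ := Scheme.Pullback.exists_preimage_pullback (f := c) (g := φ.base.left) _ t₁ hc
    let R := pullback c φ.base.left
    let Ω : Type u := AlgebraicClosure (R.residueField z)
    let ω : Spec (CommRingCat.of Ω) ⟶ R :=
      Spec.map (CommRingCat.ofHom (algebraMap (R.residueField z) Ω)) ≫ R.fromSpecResidueField z
    let σ₁ : Spec (CommRingCat.of Ω) ⟶ Spec (CommRingCat.of k') := ω ≫ pullback.fst c φ.base.left
    let σ₂ : Spec (CommRingCat.of Ω) ⟶ A'.base.left := ω ≫ pullback.snd c φ.base.left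
    obtain ⟨X', q, i, hP⟩ := exists_scheme_fibre A' hA' Ω σ₂
    haveI : IsReduced X' := H Ω σ₂ X' q i hP
    haveI : IsReduced (A'.ptOver (q ≫ σ₂)).left := ‹IsReduced X'›
    let jk : Over.mk (Spec.map (CommRingCat.ofHom ψ) ≫ str) ⟶ A.base :=
      (Over.homMk (Spec.map (CommRingCat.ofHom ψ)) rfl :
        Over.mk (Spec.map (CommRingCat.ofHom ψ) ≫ str) ⟶ Over.mk str) ≫ m
    let τ : A'.ptOver σ₂ ⟶ Over.mk (Spec.map (CommRingCat.ofHom ψ) ≫ str) := Over.homMk σ₁ (by
      change σ₁ ≫ Spec.map (CommRingCat.ofHom ψ) ≫ str = σ₂ ≫ A'.base.hom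
      calc σ₁ ≫ Spec.map (CommRingCat.ofHom ψ) ≫ str
          = σ₁ ≫ Spec.map (CommRingCat.ofHom ψ) ≫ m.left ≫ A.base.hom :=
            congrArg (fun e => σ₁ ≫ Spec.map (CommRingCat.ofHom ψ) ≫ e) (Over.w m).symm
        _ = σ₂ ≫ φ.base.left ≫ A.base.hom := by
            simp only [σ₁, σ₂, Category.assoc]
            exact congrArg (ω ≫ ·) (by rw [← pullback.condition_assoc]; simp [c])
        _ = σ₂ ≫ A'.base.hom := congrArg (σ₂ ≫ ·) (Over.w φ.base))
    have hτ : τ ≫ jk = A'.ptHom σ₂ ≫ φ.base := by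
      apply Over.OverMorphism.ext
      simp only [τ, jk, σ₁, σ₂, c, Over.comp_left, Over.homMk_left, Category.assoc]
      exact congrArg (ω ≫ ·) pullback.condition
    have sqj : IsPullback a b A.f ((AlgSp.yon S).map jk) := by
      simp only [jk, Functor.map_comp]
      rw [← toHom_up m]
      exact sq
    have big : IsPullback (i ≫ φ.top) ((AlgSp.yon S).map (A'.fibHom σ₂ q)) A.f
        ((AlgSp.yon S).map τ ≫ (AlgSp.yon S).map jk) := by
      rw [← Functor.map_comp, hτ, Functor.map_comp]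
      exact hP.paste_horiz φ.cart
    let l := sqj.lift (i ≫ φ.top) ((AlgSp.yon S).map (A'.fibHom σ₂ q) ≫ (AlgSp.yon S).map τ)
      (by rw [big.w, Category.assoc])
    have sql : IsPullback l ((AlgSp.yon S).map (A'.fibHom σ₂ q)) b ((AlgSp.yon S).map τ) :=
      IsPullback.of_right (by rw [sqj.lift_fst]; exact big) (sqj.lift_snd _ _ _) sqj
    have hXk : AlgSp.IsAlgSpace Xk' := Groth.Agent.AlgSp.isAlgSpace_of_isPullback'
      (AlgSp.IsAlgSpace.yon_obj _) hA.1 (AlgSp.IsAlgSpace.yon_obj _) sqj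
    obtain ⟨U, p, hp, hs⟩ := hXk.atlas
    refine ⟨U, p, hp, hs, ?_⟩
    obtain ⟨h, hh⟩ := (AlgSp.yon S).map_surjective (p ≫ b)
    obtain ⟨R', r₁, r₂, sqR⟩ := AlgSpB.exists_pullback_yon hp.1 l
    haveI : Etale r₂.left := hp.2 _ _ _ sqR
    haveI : IsReduced R'.left := AlgSpB.isReduced_of_etale r₂.left
    have sqU : IsPullback ((AlgSp.yon S).map r₁) ((AlgSp.yon S).map (r₂ ≫ A'.fibHom σ₂ q))
        ((AlgSp.yon S).map h) ((AlgSp.yon S).map τ) := by
      rw [hh, Functor.map_comp]
      exact sqR.paste_vert sql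
    have sqU' : IsPullback r₁.left (r₂ ≫ A'.fibHom σ₂ q).left h.left τ.left :=
      (IsPullback.of_map (AlgSp.yon S) ((AlgSp.yon S).map_injective (by
        rw [Functor.map_comp, Functor.map_comp]; exact sqU.w)) sqU).map (Over.forget S)
    haveI : Flat τ.left := AlgSpB.flat_to_field (k := k') _
    haveI : Surjective τ.left := ⟨fun x => ⟨IsLocalRing.closedPoint Ω,
      @Subsingleton.elim _ (inferInstanceAs (Subsingleton (PrimeSpectrum k'))) _ _⟩⟩
    haveI : Flat r₁.left := MorphismProperty.of_isPullback sqU'.flip ‹_›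
    haveI : Surjective r₁.left := MorphismProperty.of_isPullback sqU'.flip ‹_›
    exact FlatMor.GeomDescent.isReduced_of_flat_surjective r₁.left
  · intro H Ω _ _ t X' q i hP
    let m : A'.ptOver t ⟶ A.base := A'.ptHom t ≫ φ.base
    have hy : AlgSp.Points.schemeHomeo A.base (m.left (IsLocalRing.closedPoint Ω)) ∈ redLocus A :=
      H ⟨t (IsLocalRing.closedPoint Ω), rfl⟩
    have hsq := hy ⟨Ω, t ≫ A'.base.hom, ULift.up m⟩
      (AlgSp.Points.ofScheme_apply_eq_mk A.base m.left (Over.w m)).symm Ω (RingHom.id Ω)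
    let j : A'.ptOver t ≅ Over.mk (Spec.map (CommRingCat.ofHom (RingHom.id Ω)) ≫ t ≫ A'.base.hom) :=
      Over.isoMk (Iso.refl _) (by simp)
    have big : IsPullback (i ≫ φ.top) ((AlgSp.yon S).map (A'.fibHom t q)) A.f ((AlgSp.yon S).map m) := by
      rw [Functor.map_comp]
      exact hP.paste_horiz φ.cart
    obtain ⟨U, p, hp, hs, hU⟩ := hsq _ (i ≫ φ.top) ((AlgSp.yon S).map (A'.fibHom t q ≫ j.hom)) (by
      rw [toHom_up, ← Functor.map_comp]
      refine big.of_iso (Iso.refl _) (Iso.refl _) ((AlgSp.yon S).mapIso j) (Iso.refl _) (by simp)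
        (by simp) (by simp) ?_
      rw [Iso.refl_hom, Category.comp_id, Functor.mapIso_hom, ← Functor.map_comp]
      congr 1
      apply Over.OverMorphism.ext
      simp [j])
    obtain ⟨r, rfl⟩ := (AlgSp.yon S).map_surjective p
    have : Etale r.left := (AlgSp.repWith_yon_map_iff _ r).1 hp
    have : Surjective r.left := (AlgSp.repWith_yon_map_iff _ r).1 hs
    have : IsReduced U.left := hU
    exact FlatMor.GeomDescent.isReduced_of_flat_surjective r.left

/-- The families with geometrically reduced fibres form an open substack. -/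
theorem isOpenSubstack_geomRed (hC : AlgSt.IsAlgStack Scheme.fppfPrecoverage (CurvSt.Curves S 0)) :
    AlgSt.IsOpenSubstack (CurvSt.Curves S 0) (fun A => GeomRed A.obj) Scheme.fppfPrecoverage := by
  refine isOpenSubstack_of_exists_open hC GeomRed fun A hA => ?_
  have hopen := S10682.result (X := ⟨A.X, hA.1⟩) (Y := ⟨_, AlgSp.IsAlgSpace.yon_obj A.base⟩)
    (ObjectProperty.homMk A.f) hA.2.1 hA.2.2.1 hA.2.2.2.1
  exact ⟨⟨_, hopen.preimage (AlgSp.Points.schemeHomeo A.base).continuous⟩,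
    fun A' φ hA' => geomRed_iff hA hA' φ⟩

end Groth.Agent.CurvLoci

namespace Groth.Agent.CurvLoci

open Groth.Agent

variable {S : Scheme.{u}}

/-- A geometric fibre of the family of a point is reduced. -/
theorem isReduced_of_isPullback_id {Ω K : Type u} [Field Ω] [Field K] {t : Spec (CommRingCat.of Ω) ⟶ S}
    (σ : Spec (CommRingCat.of K) ⟶ Spec (CommRingCat.of Ω)) {X' : Scheme.{u}}
    {q : X' ⟶ Spec (CommRingCat.of K)}
    (m : (fieldFam t (𝟙 (Spec (CommRingCat.of Ω)))).ptOver (q ≫ σ) ⟶ Over.mk (𝟙 _ ≫ t))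
    (hP : IsPullback ((AlgSp.yon S).map m) ((AlgSp.yon S).map ((fieldFam t (𝟙 (Spec (CommRingCat.of Ω)))).fibHom σ q))
      (fieldFam t (𝟙 (Spec (CommRingCat.of Ω)))).f
      ((AlgSp.yon S).map ((fieldFam t (𝟙 (Spec (CommRingCat.of Ω)))).ptHom σ))) : IsReduced X' := by
  let e : Over.mk (𝟙 (Spec (CommRingCat.of Ω)) ≫ t) ≅ Over.mk t :=
    Over.isoMk (Iso.refl _) (by simp)
  have h1 : IsIso ((fieldFam t (𝟙 (Spec (CommRingCat.of Ω)))).f) :=
    inferInstanceAs (IsIso ((AlgSp.yon S).mapIso e).hom)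
  have h2 := hP.isIso_snd_of_isIso
  have : IsIso ((fieldFam t (𝟙 (Spec (CommRingCat.of Ω)))).fibHom σ q) := isIso_of_reflects_iso _ (AlgSp.yon S)
  have : IsIso q := inferInstanceAs (IsIso ((Over.forget S).map ((fieldFam t (𝟙 (Spec (CommRingCat.of Ω)))).fibHom σ q)))
  haveI : IsReduced (Spec (CommRingCat.of K)) := inferInstance
  exact AlgSpB.isReduced_of_etale q

end Groth.Agent.CurvLoci
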