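import Groth.Agent.CurvLoci.Engine
import Groth.Agent.AlgSpReg.LciScheme
import Groth.Agent.AlgSpReg.LciFibre
import Groth.Agent.S9729
import Groth.Agent.S10665

/-!
# Being a Koszul morphism at a point is a good condition
-/

set_option autoImplicit false
set_option backward.isDefEq.respectTransparency false
set_option backward.isDefEq.respectTransparency.types false
set_option linter.style.haveILetI false

universe u

open CategoryTheory CategoryTheory.Limits AlgebraicGeometry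

namespace Groth.Agent.CurvLoci

open Groth.Agent

variable {U V W : Scheme.{u}}

theorem exists_lci_nhd {h : U ⟶ V} {x : U} (H : Synt.IsKoszulAt h x) :
    ∃ O : U.Opens, x ∈ O ∧ AlgSp.lci (O.ι ≫ h) := by
  obtain ⟨O, P, i, π, hx, -, hi, hπ, hfac⟩ := H
  haveI := hπ
  refine ⟨O, hx, fun y => ?_⟩
  rw [← hfac]
  exact AlgSpReg.lci_comp_smooth i (fun y => S10665.isKoszulAt_of_immersion i hi y) π y

theorem isKoszulAt_of_lci_nhd {h : U ⟶ V} {x : U} (O : U.Opens) (hx : x ∈ O)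
    (H : AlgSp.lci (O.ι ≫ h)) : Synt.IsKoszulAt h x :=
  AlgSpReg.isKoszulAt_of_openImmersion_comp O.ι h ⟨x, hx⟩ (H _)

theorem isKoszulAt_postcomp (h : U ⟶ V) (e : V ⟶ W) [Etale e] (x : U) :
    Synt.IsKoszulAt (h ≫ e) x ↔ Synt.IsKoszulAt h x := by
  constructor
  · intro H
    obtain ⟨O, hx, hO⟩ := exists_lci_nhd H
    exact isKoszulAt_of_lci_nhd O hx fun y =>
      S9729.result (O.ι ≫ h) e (fun z => by rw [Category.assoc]; exact hO z) y
  · intro H
    obtain ⟨O, hx, hO⟩ := exists_lci_nhd H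
    refine isKoszulAt_of_lci_nhd O hx ?_
    rw [← Category.assoc]
    exact AlgSpReg.lci_comp_smooth _ hO e

theorem isKoszulAt_precomp (p : U ⟶ V) [Etale p] (h : V ⟶ W) (x : U) :
    Synt.IsKoszulAt (p ≫ h) x ↔ Synt.IsKoszulAt h (p x) := by
  constructor
  · intro H
    obtain ⟨O, hx, hO⟩ := exists_lci_nhd H
    let O' : V.Opens := ⟨p '' (O : Set U), p.isOpenMap _ O.2⟩
    have hle : O ≤ p ⁻¹ᵁ O' := fun z hz => ⟨z, hz, rfl⟩
    let g := p.resLE O' O hle
    haveI : Surjective g := by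
      refine ⟨fun ⟨y, hy⟩ => ?_⟩
      obtain ⟨z, hz, rfl⟩ := hy
      refine ⟨⟨z, hz⟩, O'.ι.isOpenEmbedding.injective ?_⟩
      rw [← Scheme.Hom.comp_apply, Scheme.Hom.resLE_comp_ι, Scheme.Hom.comp_apply]
      rfl
    haveI : Etale g := by
      show Etale (U.homOfLE hle ≫ p ∣_ O')
      infer_instance
    refine isKoszulAt_of_lci_nhd O' ⟨x, hx, rfl⟩ (AlgSpReg.lci_of_etale_comp g _ ?_)
    rw [Scheme.Hom.resLE_comp_ι_assoc]
    exact hO
  · intro H
    obtain ⟨O', hx, hO⟩ := exists_lci_nhd H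
    refine isKoszulAt_of_lci_nhd (p ⁻¹ᵁ O') hx ?_
    rw [← Category.assoc, ← morphismRestrict_ι, Category.assoc]
    exact AlgSpReg.lci_smooth_comp (p ∣_ O') _ hO

theorem good_lci : Good.{u} (fun _ _ h x => Synt.IsKoszulAt h x) where
  inv := fun _ _ _ _ p q h' h _ _ _ _ _ _ w u => by
    change Synt.IsKoszulAt h' u ↔ Synt.IsKoszulAt h (p u)
    rw [← isKoszulAt_postcomp h' q u, ← isKoszulAt_precomp p h u, w]
  isOpen := fun _ _ _ _ _ => isOpen_iff_forall_mem_open.2 fun x hx => by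
    obtain ⟨O, hxO, hO⟩ := exists_lci_nhd hx
    exact ⟨(O : Set _), fun z hz => isKoszulAt_of_lci_nhd O hz hO, O.2, hxO⟩
  bc := fun U V U' V' h k fst h' _ _ sq u' => by
    have hY : IsPullback k (𝟙 V') (𝟙 V) k := IsPullback.of_vert_isIso ⟨by simp⟩
    haveI : Flat (h ≫ 𝟙 V) := by rw [Category.comp_id]; infer_instance
    haveI : LocallyOfFinitePresentation (h ≫ 𝟙 V) := by rw [Category.comp_id]; infer_instance
    exact ⟨fun H => AlgSpReg.isKoszulAt_of_baseChange_flat hY sq H,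
      fun H => AlgSpReg.isKoszulAt_baseChange hY sq H⟩

end Groth.Agent.CurvLoci
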