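import Groth.Agent.CurvLoci.Engine
import Groth.Agent.S1591
import Groth.Agent.S1592
import Groth.Agent.S1593
import Groth.Agent.S1595
import Groth.Agent.S7912

/-!
# Being at-worst-nodal near a point is a good condition
-/

set_option autoImplicit false
set_option backward.isDefEq.respectTransparency false
set_option backward.isDefEq.respectTransparency.types false
set_option linter.style.haveILetI false

universe u

open CategoryTheory CategoryTheory.Limits AlgebraicGeometry

namespace Groth.Agent.CurvLoci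

open Groth.Agent

variable {U V W : Scheme.{u}}

/-- A nodal family near the point. -/
abbrev NodAt : ∀ (U V : Scheme.{u}), (U ⟶ V) → ↥U → Prop :=
  fun U _ h x => ∃ O : U.Opens, x ∈ O ∧ Curv2.IsNodalFamily (O.ι ≫ h)

theorem nodal_of_nodal_comp (h : U ⟶ V) (e : V ⟶ W) [Etale e] (H : Curv2.IsNodalFamily (h ≫ e)) :
    Curv2.IsNodalFamily h := by
  have : MorphismProperty.HasOfPostcompProperty @Etale @Etale := by
    rw [MorphismProperty.hasOfPostcompProperty_iff_le_diagonal]
    intro X Y f hf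
    have : Etale f := hf
    exact (inferInstanceAs (Etale (pullback.diagonal f)))
  let g : U ⟶ pullback (h ≫ e) e := pullback.lift (𝟙 U) h (by simp)
  haveI : Etale g := by
    refine MorphismProperty.of_postcomp @Etale (W' := @Etale) g (pullback.fst (h ≫ e) e)
      (MorphismProperty.pullback_fst _ _ inferInstance) ?_
    rw [pullback.lift_fst]
    infer_instance
  have h1 := S1592.result (pullback.snd (h ≫ e) e) (S7912.result (h ≫ e) H e) g
  rwa [pullback.lift_snd] at h1

theorem nodAt_postcomp (h : U ⟶ V) (e : V ⟶ W) [Etale e] (x : U) :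
    NodAt U W (h ≫ e) x ↔ NodAt U V h x := by
  refine exists_congr fun O => and_congr_right fun _ => ⟨fun H => ?_, fun H => ?_⟩
  · exact nodal_of_nodal_comp (O.ι ≫ h) e (by rwa [Category.assoc])
  · rw [← Category.assoc]
    exact S1595.result e _ H

theorem nodAt_precomp (p : U ⟶ V) [Etale p] (h : V ⟶ W) (x : U) :
    NodAt U W (p ≫ h) x ↔ NodAt V W h (p x) := by
  constructor
  · rintro ⟨O, hx, hs⟩
    let O' : V.Opens := ⟨p '' (O : Set U), p.isOpenMap _ O.2⟩
    have hle : O ≤ p ⁻¹ᵁ O' := fun z hz => ⟨z, hz, rfl⟩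
    let g := p.resLE O' O hle
    haveI : Etale g := by
      show Etale (U.homOfLE hle ≫ p ∣_ O')
      infer_instance
    refine ⟨O', ⟨x, hx, rfl⟩, S1593.result _ PUnit (fun _ => O.toScheme) (fun _ => g) (fun y => ?_) fun _ => ?_⟩
    · obtain ⟨z, hz, e⟩ := y.2
      refine ⟨⟨⟩, ⟨z, hz⟩, O'.ι.isOpenEmbedding.injective ?_⟩
      rw [← Scheme.Hom.comp_apply, Scheme.Hom.resLE_comp_ι, Scheme.Hom.comp_apply]
      exact e
    · rw [Scheme.Hom.resLE_comp_ι_assoc]
      exact hs
  · rintro ⟨O', hx, hs⟩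
    refine ⟨p ⁻¹ᵁ O', hx, ?_⟩
    rw [← Category.assoc, ← morphismRestrict_ι, Category.assoc]
    exact S1592.result _ hs _

theorem nodAt_all_iff (h : U ⟶ V) : (∀ x, NodAt U V h x) ↔ Curv2.IsNodalFamily h := by
  refine ⟨fun H => ?_, fun H x => ⟨⊤, trivial, S1592.result h H _⟩⟩
  choose O hO hs using H
  exact S1593.result h U (fun x => (O x).toScheme) (fun x => (O x).ι)
    (fun x => ⟨x, ⟨x, hO x⟩, rfl⟩) hs

theorem nodAt_of_isPullback {U' V' : Scheme.{u}} {h : U ⟶ V} {k : V' ⟶ V} {fst : U' ⟶ U} {h' : U' ⟶ V'}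
    [Flat h] [LocallyOfFinitePresentation h] (sq : IsPullback fst h' h k) (u' : U') :
    NodAt U' V' h' u' ↔ NodAt U V h (fst u') := by
  obtain ⟨O, ⟨hO, hmax⟩, hbc⟩ := S1591.result h
  obtain ⟨hn, hm⟩ := hbc V' k
  have key : ∀ p, NodAt _ _ (pullback.snd h k) p ↔ pullback.fst h k p ∈ O :=
    fun p => ⟨fun ⟨W', hp, hW⟩ => hm W' hW hp, fun hp => ⟨_, hp, hn⟩⟩
  have hO' : NodAt U V h (fst u') ↔ fst u' ∈ O :=
    ⟨fun ⟨W', hp, hW⟩ => hmax W' hW hp, fun hp => ⟨O, hp, hO⟩⟩
  rw [← sq.isoPullback_hom_snd, nodAt_precomp sq.isoPullback.hom, key, hO', ← Scheme.Hom.comp_apply,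
    sq.isoPullback_hom_fst]

theorem good_nodal : Good.{u} NodAt where
  inv := fun _ _ _ _ p q h' h _ _ _ _ _ _ w u => by
    rw [← nodAt_postcomp h' q u, ← nodAt_precomp p h u, w]
  isOpen := fun _ _ _ _ _ => isOpen_iff_forall_mem_open.2 fun x ⟨O, hx, hs⟩ =>
    ⟨(O : Set _), fun _ hz => ⟨O, hz, hs⟩, O.2, hx⟩
  bc := fun _ _ _ _ _ _ _ _ _ _ sq u' => nodAt_of_isPullback sq u'

theorem pw_nodAt : pw NodAt.{u} = CurvSt.nodalFam := by
  ext U V h
  exact nodAt_all_iff h

end Groth.Agent.CurvLoci
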