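import Groth.Agent.CurvLoci.Nodal
import Groth.Agent.CurvLoci.Dim1
import Groth.Agent.NodeStruct.FittingFamily
import Groth.Agent.StFieldLib.Basic
import Groth.Agent.FlatOpen.EquiDim

/-!
# The projective line is a nodal curve over a field
-/

set_option autoImplicit false
set_option backward.isDefEq.respectTransparency false
set_option backward.isDefEq.respectTransparency.types false
set_option linter.style.haveILetI false

universe u

open CategoryTheory CategoryTheory.Limits AlgebraicGeometry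

namespace Groth.Agent.CurvLoci

open Groth.Agent

theorem isNodalFamily_p1 (Ω : Type u) [Field Ω] :
    Curv2.IsNodalFamily (CohB1.ProjSpace.toSpec 1 Ω) := by
  haveI : SmoothOfRelativeDimension 1 (CohB1.ProjSpace.toSpec 1 Ω) :=
    P1Smooth.smoothOfRelativeDimension_toSpec 1 Ω
  haveI : Smooth (CohB1.ProjSpace.toSpec 1 Ω) := CohOps.PnSmooth.smooth_toSpec 1 Ω
  letI : (CohB1.ProjSpace 1 Ω).Over (Spec (CommRingCat.of Ω)) := ⟨CohB1.ProjSpace.toSpec 1 Ω⟩
  haveI : LocallyOfFiniteType ((CohB1.ProjSpace 1 Ω) ↘ Spec (CommRingCat.of Ω)) :=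
    inferInstanceAs (LocallyOfFiniteType (CohB1.ProjSpace.toSpec 1 Ω))
  refine NodeStruct.isNodalFamily_of_atWorstNodal (CohB1.ProjSpace 1 Ω) ?_
    fun x _ => Or.inl ⟨⊤, trivial, ?_⟩
  · refine (FlatOpen.EquiDim.irreducibleComponents_dimPt_iff Ω 1).2 fun z hz => ?_
    have h1 := FlatOpen.EquiDim.localDim_of_max Ω hz
    rw [← AlgSpEN.fibreDimAt_field (CohB1.ProjSpace.toSpec 1 Ω) z, S2768.result 1 _ z] at h1
    exact_mod_cast h1.symm
  · exact inferInstanceAs (Smooth (Scheme.Opens.ι _ ≫ CohB1.ProjSpace.toSpec 1 Ω))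

/-- Every geometric fibre of a surjective family over a field point is nonempty. -/
theorem geomFib_nonempty {S : Scheme.{u}} {Ω : Type u} [Field Ω] (t : Spec (CommRingCat.of Ω) ⟶ S)
    {X : Scheme.{u}} (p : X ⟶ Spec (CommRingCat.of Ω)) [Surjective p] :
    CurvSt.GeomFib (fun _ _ _ X' _ _ => Nonempty ↥X') (fieldFam t p) := by
  refine (StFieldLib.geomFib_iff S t p fun _ _ _ X' _ => Nonempty ↥X').2 ?_
  intro Ω' _ _ s X' q i₀ sq
  obtain ⟨x, hx⟩ := p.surjective (s (IsLocalRing.closedPoint Ω'))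
  obtain ⟨x', -, -⟩ := Scheme.exists_preimage_of_isPullback sq x (IsLocalRing.closedPoint Ω') hx
  exact ⟨x'⟩

theorem surjective_p1 (Ω : Type u) [Field Ω] : Surjective (CohB1.ProjSpace.toSpec 1 Ω) := by
  haveI : Nontrivial (HomogeneousLocalization.Away (CohB1.polyGrading 1 Ω) (MvPolynomial.X (0 : Fin 2))) :=
    (RingEquiv.ofBijective (CohOps.PnSmooth.toAway 1 Ω 0)
      (CohOps.PnSmooth.toAway_bijective 1 Ω 0)).symm.surjective.nontrivial
  obtain ⟨pt⟩ : Nonempty (PrimeSpectrum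
    (HomogeneousLocalization.Away (CohB1.polyGrading 1 Ω) (MvPolynomial.X (0 : Fin 2)))) := inferInstance
  let x : ↥(CohB1.ProjSpace 1 Ω) := Proj.awayι (CohB1.polyGrading 1 Ω) (MvPolynomial.X (0 : Fin 2))
    (CohOps.PnSmooth.X_mem 1 Ω 0) one_pos pt
  exact ⟨fun y => ⟨x, Subsingleton.elim (α := PrimeSpectrum Ω) _ _⟩⟩

end Groth.Agent.CurvLoci
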