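import Groth.Agent.CurvLoci.ConnDim
import Groth.Agent.CurvLoci.NodalPoint
import Groth.Agent.StrictSSLib.FibreTransfer
import Groth.Agent.StrictSSLib.NodeAlgebra
import Groth.Agent.StrictSSLib.NodalBaseChange

/-!
# Prestable families form an open substack of the stack of curves
-/

set_option autoImplicit false
set_option backward.isDefEq.respectTransparency false
set_option backward.isDefEq.respectTransparency.types false
set_option linter.style.haveILetI false

universe u

open CategoryTheory CategoryTheory.Limits AlgebraicGeometry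

namespace Groth.Agent.CurvLoci

open Groth.Agent

/-- A nodal curve over an algebraically closed field is reduced. -/
theorem isReduced_of_nodalFamily {Ω : Type u} [Field Ω] [IsAlgClosed Ω] {X : Scheme.{u}}
    (φ : X ⟶ Spec (CommRingCat.of Ω)) [LocallyOfFinitePresentation φ] (h : Curv2.IsNodalFamily φ) :
    IsReduced X := by
  haveI : JacobsonSpace ↥X := LocallyOfFiniteType.jacobsonSpace φ
  have closed : ∀ x : X, IsClosed ({x} : Set X) → _root_.IsReduced (X.presheaf.stalk x) := by
    intro x hx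
    by_cases hs : x ∈ φ.smoothLocus
    · let U := φ.smoothLocus
      haveI : Smooth (U.ι ≫ φ) := StrictSSLib.smooth_smoothLocus φ
      haveI := StrictSSLib.isDomain_stalk_of_smooth (U.ι ≫ φ) ⟨x, hs⟩
      exact isReduced_of_injective (U.stalkIso ⟨x, hs⟩).commRingCatIsoToRingEquiv.symm.toRingHom
        (U.stalkIso ⟨x, hs⟩).commRingCatIsoToRingEquiv.symm.injective
    obtain ⟨K, _, _, _, Y, P, π, hsq, y, rfl, hord⟩ := StrictSSLib.exists_geom_node φ h hx hs
    haveI : IsIso (CommRingCat.ofHom (algebraMap Ω K)) := (ConcreteCategory.isIso_iff_bijective _).mpr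
      IsAlgClosed.algebraMap_bijective_of_isIntegral
    haveI : IsIso P := MorphismProperty.of_isPullback (P := MorphismProperty.isomorphisms Scheme.{u}) hsq.flip
      (show IsIso (Spec.map (CommRingCat.ofHom (algebraMap Ω K))) from inferInstance)
    haveI : LocallyOfFiniteType π := MorphismProperty.of_isPullback hsq inferInstance
    haveI : IsLocallyNoetherian Y := LocallyOfFiniteType.isLocallyNoetherian π
    obtain ⟨e, -⟩ := hord
    haveI : _root_.IsReduced (StrictSSLib.FormalNode K) := by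
      refine ⟨fun z ⟨n, hn⟩ => StrictSSLib.node_ext fun i => ?_⟩
      exact IsReduced.eq_zero _ ⟨n, by rw [← map_pow, hn, map_zero]⟩
    let R := Y.presheaf.stalk y
    haveI : _root_.IsReduced (AdicCompletion (IsLocalRing.maximalIdeal R) R) :=
      isReduced_of_injective e.toRingHom e.injective
    haveI : IsHausdorff (IsLocalRing.maximalIdeal R) R := inferInstance
    haveI : _root_.IsReduced R := isReduced_of_injective (algebraMap R (AdicCompletion (IsLocalRing.maximalIdeal R) R))
      (AdicCompletion.of_injective (IsLocalRing.maximalIdeal R) R)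
    exact isReduced_of_injective (P.stalkMap y).hom (ConcreteCategory.bijective_of_isIso _).1
  refine @isReduced_of_isReduced_stalk X fun x => ?_
  obtain ⟨b, hb, hbc⟩ : ((closure {x}) ∩ closedPoints ↥X).Nonempty :=
    nonempty_inter_closedPoints ⟨x, subset_closure rfl⟩ isClosed_closure.isLocallyClosed
  exact SecDim.isReduced_stalk_of_isReduced (specializes_iff_mem_closure.2 hb) (closed b hbc)

variable {S : Scheme.{u}}

/-- Nodal families have reduced geometric fibres. -/
theorem geomRed_of_nodal (A : CurvSt.SpFamObj S 0) (hA : CurvSt.IsCurveFam A)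
    (H : AlgSp.LocP CurvSt.nodalFam A.f) : GeomRed A := by
  intro Ω _ _ t X' q i hP
  obtain ⟨hX, hflat, -, hfp, -⟩ := hA
  have hq : LocallyOfFinitePresentation q :=
    (AlgSpCov.locP_baseChange AlgSpCov.etaleLocal_locallyOfFinitePresentation hX
      (AlgSp.IsAlgSpace.yon_obj _) hP hfp.1) (𝟙 _) (𝟙 _) (A.fibHom t q) (AlgSp.repWith_id _ _)
      (AlgSp.repWith_id _ _) (by simp)
  haveI := hq
  haveI : Flat q := AlgSpB.flat_to_field q
  obtain ⟨U₀, p, hp, hs⟩ := hX.atlas
  obtain ⟨h, hh⟩ := (AlgSp.yon S).map_surjective (p ≫ A.f)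
  have hid : AlgSp.RepWith @Etale (𝟙 ((AlgSp.yon S).obj A.base)) := AlgSp.repWith_id _ _
  have w0 : p ≫ A.f = (AlgSp.yon S).map h ≫ 𝟙 _ := by rw [Category.comp_id]; exact hh.symm
  haveI : Flat h.left := hflat p (𝟙 _) h hp hid w0
  haveI : LocallyOfFinitePresentation h.left := hfp.1 p (𝟙 _) h hp hid w0
  have hN : ∀ u, NodAt U₀.left A.base.left h.left u := (nodAt_all_iff h.left).2 (H p (𝟙 _) h hp hid w0)
  refine isReduced_of_nodalFamily q ((nodAt_all_iff q).1 fun x' => ?_)
  have hW := IsPullback.of_hasPullback h (A.ptHom t)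
  have hW' := hW.map (AlgSp.yon S)
  have hWl : IsPullback (pullback.fst h (A.ptHom t)).left (pullback.snd h (A.ptHom t)).left h.left t :=
    hW.map (Over.forget S)
  let d : (AlgSp.yon S).obj (pullback h (A.ptHom t)) ⟶ (AlgSp.yon S).obj (A.ptOver (q ≫ t)) :=
    hP.lift ((AlgSp.yon S).map (pullback.fst h _) ≫ p) ((AlgSp.yon S).map (pullback.snd h _)) (by
      rw [Category.assoc, ← hh]; exact hW'.w)
  have sqd : IsPullback ((AlgSp.yon S).map (pullback.fst h (A.ptHom t))) d p i :=
    IsPullback.of_bot (by rw [IsPullback.lift_snd, ← hh]; exact hW') (IsPullback.lift_fst _ _ _ _).symm hP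
  have hde : AlgSp.RepWith @Etale d := AlgSpCov.repWith_bc sqd hp
  have hds : AlgSp.RepWith @Surjective d := AlgSpCov.repWith_bc sqd hs
  obtain ⟨r, hr⟩ := (AlgSp.yon S).map_surjective d
  haveI : Etale r.left := (AlgSp.repWith_yon_map_iff _ r).1 (hr ▸ hde)
  haveI : Surjective r.left := (AlgSp.repWith_yon_map_iff _ r).1 (hr ▸ hds)
  have hrw : r.left ≫ q = (pullback.snd h (A.ptHom t)).left := by
    have e : r ≫ A.fibHom t q = pullback.snd h (A.ptHom t) := (AlgSp.yon S).map_injective (by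
      rw [Functor.map_comp, hr]; exact hP.lift_snd _ _ _)
    exact congrArg (fun k => CommaMorphism.left k) e
  haveI : LocallyOfFinitePresentation (pullback.snd h (A.ptHom t)).left :=
    MorphismProperty.of_isPullback hWl inferInstance
  haveI : Flat (pullback.snd h (A.ptHom t)).left := MorphismProperty.of_isPullback hWl inferInstance
  obtain ⟨w, rfl⟩ := r.left.surjective x'
  exact (good_nodal.inv r.left (𝟙 _) (pullback.snd h (A.ptHom t)).left q
    (by rw [Category.comp_id]; exact hrw.symm) w).1 ((good_nodal.bc h.left t _ _ hWl w).2 (hN _))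

/-- Prestable families form an open substack. -/
theorem isOpenSubstack_prestable (hC : AlgSt.IsAlgStack Scheme.fppfPrecoverage (CurvSt.Curves S 0)) :
    AlgSt.IsOpenSubstack (CurvSt.Curves S 0) (fun A => CurvSt.SpIsPrestable A.obj) Scheme.fppfPrecoverage := by
  refine isOpenSubstack_of_exists_open hC CurvSt.SpIsPrestable fun A hA => ?_
  have hopen := S10682.result (X := ⟨A.X, hA.1⟩) (Y := ⟨_, AlgSp.IsAlgSpace.yon_obj A.base⟩)
    (ObjectProperty.homMk A.f) hA.2.1 hA.2.2.1 hA.2.2.2.1
  let V₁ : A.base.left.Opens := ⟨_, hopen.preimage (AlgSp.Points.schemeHomeo A.base).continuous⟩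
  obtain ⟨V₂, hV₂⟩ := exists_open good_nodal hA
  obtain ⟨V₃, hV₃⟩ := exists_open_connected A hA V₁ subset_rfl
  refine ⟨V₁ ⊓ V₂ ⊓ V₃, fun A' φ hA' => ?_⟩
  simp only [TopologicalSpace.Opens.coe_inf, Set.subset_inter_iff]
  have hn := hV₂ A' φ hA'
  rw [pw_nodAt] at hn
  refine ⟨fun ⟨h2, h3⟩ => ?_, fun ⟨⟨h1, h2⟩, h3⟩ => ⟨hn.2 h2, (hV₃ A' φ hA' h1).2 h3⟩⟩
  have h1 : Set.range φ.base.left ⊆ (V₁ : Set A.base.left) :=
    (geomRed_iff hA hA' φ).1 (geomRed_of_nodal A' hA' h2)
  exact ⟨⟨h1, hn.1 h2⟩, (hV₃ A' φ hA' h1).1 h3⟩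

/-- The projective line is prestable over a field point. -/
theorem nonempty_fiber_prestable {Ω : Type u} [Field Ω] (t : Spec (CommRingCat.of Ω) ⟶ S) :
    Nonempty ((AlgSt.fullSub (CurvSt.Curves S 0) (fun A => CurvSt.SpIsPrestable A.obj)).p.Fiber (Over.mk t)) := by
  haveI : IsProper (CohB1.ProjSpace.toSpec 1 Ω) := ProjProper.Basic.isProper_toSpec 1 Ω
  haveI : SmoothOfRelativeDimension 1 (CohB1.ProjSpace.toSpec 1 Ω) :=
    P1Smooth.smoothOfRelativeDimension_toSpec 1 Ω
  haveI : Smooth (CohB1.ProjSpace.toSpec 1 Ω) := CohOps.PnSmooth.smooth_toSpec 1 Ω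
  have hd : ∀ x, FlatMor.localDim (CohB1.ProjSpace 1 Ω) x ≤ ((1 : ℕ) : WithBot ℕ∞) := fun x => by
    rw [← AlgSpEN.fibreDimAt_field (CohB1.ProjSpace.toSpec 1 Ω) x, S2768.result 1 _ x]
  refine nonempty_fiber t (CohB1.ProjSpace.toSpec 1 Ω) hd (fun A => CurvSt.SpIsPrestable A.obj) ⟨?_, ?_⟩
  · have h := (locP_pw_fieldFam_iff t (CohB1.ProjSpace.toSpec 1 Ω) good_nodal).2
      ((nodAt_all_iff _).2 (isNodalFamily_p1 Ω))
    rwa [pw_nodAt] at h
  refine (StFieldLib.geomFib_iff S t _ fun _ _ _ X' _ => ConnectedSpace ↥X').2 ?_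
  intro K _ _ s X' q i₀ sq
  obtain ⟨φ, rfl⟩ : ∃ φ : Ω →+* K, Spec.map (CommRingCat.ofHom φ) = s :=
    ⟨(Spec.preimage s).hom, Spec.map_preimage s⟩
  let e := sq.isoIsPullback _ _ (ProperFin.isPullback_pnMap 1 φ)
  haveI := S18573.irreducibleSpace_projSpace 1 K
  exact e.inv.surjective.connectedSpace e.inv.continuous

end Groth.Agent.CurvLoci
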